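import Groth.Agent.EllSecLib.TreeSeq
import Groth.Agent.NefH1Lib.Core
import Groth.Agent.NefH1Lib.Subcurve.Main
import Groth.Agent.RRVanLib.GG
import Groth.Agent.TensorAssocLib.Derived
import Groth.Agent.VBResLib.GGen
import Groth.Agent.GrpdFieldLib.ClosedSub
import Groth.Agent.S1536
import Groth.Agent.S1537
import Groth.Agent.PnCohLib.Hypersurface
import Groth.Agent.ParGPLib.Basic

/-!
# Growing a subcurve by components with globally generated restrictions
-/

set_option autoImplicit false
set_option linter.style.haveILetI false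
set_option backward.isDefEq.respectTransparency false
set_option backward.isDefEq.respectTransparency.types false
set_option maxHeartbeats 1000000

universe u

open CategoryTheory CategoryTheory.Limits AlgebraicGeometry TopologicalSpace Opposite
open HilbPolyLib DevissLib NefH1Lib.Subcurve
open KFlatLib (pb)

noncomputable section

namespace EllSecLib

variable (k : Type u) [Field k] {C : Scheme.{u}} [C.Over (Spec (CommRingCat.of k))]
  [IsProper (C ↘ Spec (CommRingCat.of k))]

include k in
/-- On a scheme of dimension at most one the first cohomology passes to quotients. -/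
theorem h1_quot (hdim : topologicalKrullDim C ≤ 1) {M N : C.Modules} (hM : Coh.IsQCoh M) (hN : Coh.IsQCoh N)
    (φ : M ⟶ N) [Epi φ] (h : Subsingleton (Coh.HH C M 1)) : Subsingleton (Coh.HH C N 1) := by
  haveI := CurvLib.isNoetherian k (X := C)
  exact NefH1Lib.h1_of_epi (fun _ _ => CurvLib.subsingleton_HH_of_dim_le _ hdim 2 (by norm_num)) hM hN φ h

include k in
/-- A connected reduced closed subscheme has no more functions than the field. -/
theorem h0_subscheme [IsAlgClosed k] [CharZero k] (J : C.IdealSheafData) [IsReduced J.subscheme]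
    [ConnectedSpace J.subscheme] :
    letI : J.subscheme.Over (Spec (CommRingCat.of k)) := ⟨J.subschemeι ≫ (C ↘ Spec (CommRingCat.of k))⟩
    Module.finrank k (Coh.HH J.subscheme (Coh.structureModule J.subscheme) 0) = 1 := by
  letI : J.subscheme.Over (Spec (CommRingCat.of k)) := ⟨J.subschemeι ≫ (C ↘ Spec (CommRingCat.of k))⟩
  haveI : IsProper (J.subscheme ↘ Spec (CommRingCat.of k)) :=
    inferInstanceAs (IsProper (J.subschemeι ≫ (C ↘ Spec (CommRingCat.of k))))
  haveI : GeometricallyReduced (J.subscheme ↘ Spec (CommRingCat.of k)) :=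
    GrpdFieldLib.geometricallyReduced_of_perfect (J.subscheme ↘ Spec (CommRingCat.of k))
  haveI := CurvLib.isNoetherian k (X := J.subscheme)
  obtain ⟨z, -, hz⟩ := IsClosed.exists_closed_singleton (isClosed_univ (X := J.subscheme)) ⟨Classical.arbitrary _, trivial⟩
  haveI : GeometricallyConnected (J.subscheme ↘ Spec (CommRingCat.of k)) :=
    Groth.Agent.S1537.result k J.subscheme z fun a ha => by
      letI : Algebra k (J.subscheme.residueField z) := Curv2.resAlgebra k J.subscheme z
      have hi : _root_.IsIntegral k a := ha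
      exact minpoly.mem_range_of_degree_eq_one k a
        (IsAlgClosed.degree_eq_one_of_irreducible k (minpoly.irreducible hi))
  exact Groth.Agent.S1536.result k J.subscheme

theorem subsingleton_of_les {K A B P Q : Type*} [Field K] [AddCommGroup A] [Module K A] [AddCommGroup B] [Module K B]
    [AddCommGroup P] [Module K P] [AddCommGroup Q] [Module K Q] (g : P →ₗ[K] Q) (d : Q →ₗ[K] A) (f : A →ₗ[K] B)
    (h₃ : LinearMap.range g = LinearMap.ker d) (h₁ : LinearMap.range d = LinearMap.ker f) (hB : Subsingleton B)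
    (hQ : Module.finrank K Q = 1) {y : P} (hy : g y ≠ 0) : Subsingleton A := by
  refine subsingleton_of_forall_eq 0 fun x => ?_
  obtain ⟨z, rfl⟩ : x ∈ LinearMap.range d := h₁ ▸ (Subsingleton.elim _ _ : f x = 0)
  obtain ⟨c, hc⟩ := exists_smul_eq_of_finrank_eq_one hQ hy z
  have : z ∈ LinearMap.ker d := h₃ ▸ ⟨c • y, by rw [map_smul, hc]⟩
  exact this

open HodgeIdxLib in
omit [IsProper (C ↘ Spec (CommRingCat.of k))] in
include k in
theorem hMap_unit_ne_zero (J : C.IdealSheafData) [Nonempty J.subscheme] :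
    CurvLib.hMap (k := k) (ClSub.toSubscheme J) 0
      ((DegPullLib.e0 (Coh.structureModule C)).symm (1 : Γ(C, ⊤))) ≠ 0 := by
  intro h
  have h2 := congrArg (DegPullLib.e0 (ClSub.quotMod J)) h
  rw [RRVanLib.e0_map, AddEquiv.apply_symm_apply, map_zero] at h2
  have h3 : (1 : Γ(J.subscheme, ⊤)) = 0 := (map_one (J.subschemeι.app ⊤).hom).symm.trans h2
  haveI : Nonempty (⊤ : J.subscheme.Opens) := ⟨⟨Classical.arbitrary _, trivial⟩⟩
  exact one_ne_zero h3

include k in
theorem subsingleton_left {S : ShortComplex C.Modules} (hS : S.ShortExact) (h1 : Subsingleton (Coh.HH C S.X₂ 1))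
    (h0 : Module.finrank k (Coh.HH C S.X₃ 0) = 1) (y : Coh.HH C S.X₂ 0) (hy : CurvLib.hMap (k := k) S.g 0 y ≠ 0) :
    Subsingleton (Coh.HH C S.X₁ 1) :=
  subsingleton_of_les (CurvLib.hMap (k := k) S.g 0) (CurvLib.hDel (k := k) hS 0) (CurvLib.hMap (k := k) S.f 1)
    (CurvLib.exact₃ (k := k) hS 0) (CurvLib.exact₁ (k := k) hS 0) h1 h0 hy

open HodgeIdxLib in
include k in
/-- The quotient by a connected reduced subcurve has one-dimensional sections. -/
theorem finrank_quot [IsAlgClosed k] [CharZero k] (J : C.IdealSheafData) [IsReduced J.subscheme]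
    [ConnectedSpace J.subscheme] : Module.finrank k (Coh.HH C (ClSub.quotMod J) 0) = 1 := by
  haveI := CurvLib.isNoetherian k (X := C)
  letI : J.subscheme.Over (Spec (CommRingCat.of k)) := ⟨J.subschemeι ≫ (C ↘ Spec (CommRingCat.of k))⟩
  exact (SurfNumLib.hh_quot J rfl 0).trans (h0_subscheme k J)

include k in
/-- A connected reduced subcurve of a curve without `H¹(O)` has an ideal without `H¹`. -/
theorem subsingleton_h1_ideal [IsAlgClosed k] [CharZero k] (h1 : Subsingleton (Coh.HH C (Coh.structureModule C) 1))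
    (J : C.IdealSheafData) [IsReduced J.subscheme] [ConnectedSpace J.subscheme] :
    Subsingleton (Coh.HH C (ClSub.idealMod J) 1) :=
  subsingleton_left (S := CurvLib.idealSeq J) k (CurvLib.idealSeq_shortExact J) h1 (finrank_quot k J)
    ((DegPullLib.e0 (Coh.structureModule C)).symm (1 : Γ(C, ⊤))) (hMap_unit_ne_zero k J)

open HodgeIdxLib in
include k in
/-- Tensoring a piece without `H¹` by a bundle generated by sections on it. -/
theorem subsingleton_h1_tensor_killed (hdim : topologicalKrullDim C ≤ 1) {F : C.Modules} (hF : FlatMod.IsFinLocFree F)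
    (Z : C.IdealSheafData) (hgg : Curv2.IsGloballyGenerated (pb Z.subschemeι F)) {N : C.Modules} (hN : Coh.IsCoh N)
    (hk : ClSub.KilledByIdeal Z N) (h : Subsingleton (Coh.HH C N 1)) :
    Subsingleton (Coh.HH C (CohB1.tensorMod F N) 1) := by
  haveI := CurvLib.isNoetherian k (X := C)
  haveI : IsLocallyNoetherian Z.subscheme := LocallyOfFiniteType.isLocallyNoetherian Z.subschemeι
  obtain ⟨G, hG, ⟨eG⟩⟩ := DevissLib.exists_coh_of_killed Z.subschemeι hN (by rw [Z.ker_subschemeι]; exact hk)
  haveI := hG.1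
  letI : Z.subscheme.Over (Spec (CommRingCat.of k)) := ⟨Z.subschemeι ≫ (C ↘ Spec (CommRingCat.of k))⟩
  haveI : IsProper (Z.subscheme ↘ Spec (CommRingCat.of k)) :=
    inferInstanceAs (IsProper (Z.subschemeι ≫ (C ↘ Spec (CommRingCat.of k))))
  haveI := CurvLib.isNoetherian k (X := Z.subscheme)
  haveI : Z.subscheme.IsSeparated := ⟨by
    rw [show terminal.from Z.subscheme = (Z.subscheme ↘ Spec (CommRingCat.of k)) ≫ terminal.from _ from terminal.hom_ext _ _]
    infer_instance⟩
  have hdZ : topologicalKrullDim Z.subscheme ≤ 1 :=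
    (Z.subschemeι.isEmbedding.isInducing.topologicalKrullDim_le).trans hdim
  have hG1 : Subsingleton (Coh.HH Z.subscheme G 1) := by
    obtain ⟨E⟩ := QCohLib.nonempty_HH_push Z.subschemeι G 1
    have : Subsingleton (Coh.HH C ((Coh.push Z.subschemeι).obj G) 1) :=
      (CurvLib.hIso (k := k) (show (Coh.push Z.subschemeι).obj G ≅ N from eG) 1).toEquiv.subsingleton
    exact E.injective.subsingleton
  have hFZ := VBResLib.isCoh_of_vb (KFlatLib.isFinLocFree_pull Z.subschemeι hF)
  obtain ⟨m, q, hq⟩ := VBResLib.exists_epi_free_of_gg hFZ hgg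
  let T := (DCoh.tensorBi (X := Z.subscheme)).obj G
  haveI : Epi (T.map q) := inferInstance
  let eT : T.obj (FlatMod.freeMod Z.subscheme m) ≅ ∐ fun _ : Fin m => G :=
    PreservesCoproduct.iso T _ ≪≫ Sigma.mapIso fun _ => (swapIso _ _ ≪≫ unitLeft G)
  have hfree : Subsingleton (Coh.HH Z.subscheme (T.obj (FlatMod.freeMod Z.subscheme m)) 1) :=
    HdgLefLib.sub_iso ((Sigma.reindex (Equiv.ulift.{u} : ULift.{u} (Fin m) ≃ Fin m) (fun _ : Fin m => G)) ≪≫ eT.symm) 1
      (AmpleAffLib.subsingleton_HH_sigma (F := fun _ : ULift.{u} (Fin m) => G) (fun _ => hG.1) fun _ => hG1)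
  have hFG : Coh.IsQCoh (CohB1.tensorMod (pb Z.subschemeι F) G) := by
    haveI := hFZ.1
    exact (Groth.Agent.S2297.result _ _).1
  have hGF : Coh.IsQCoh (T.obj (pb Z.subschemeι F)) := @QCohLib.isQCoh_of_iso _ _ _ (swapIso (pb Z.subschemeι F) G) hFG
  have hTfree : Coh.IsQCoh (T.obj (FlatMod.freeMod Z.subscheme m)) :=
    @QCohLib.isQCoh_of_iso _ _ _ ((Sigma.reindex (Equiv.ulift.{u} : ULift.{u} (Fin m) ≃ Fin m) (fun _ : Fin m => G)) ≪≫ eT.symm)
      (QCohLib.isQCoh_sigma (fun _ : ULift.{u} (Fin m) => G) fun _ => hG.1)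
  have h2 : Subsingleton (Coh.HH Z.subscheme (CohB1.tensorMod (pb Z.subschemeι F) G) 1) :=
    HdgLefLib.sub_iso (swapIso _ _) 1 (h1_quot k hdZ hTfree hGF (T.map q) hfree)
  let pr := @asIso _ _ _ _ (ProjFormLib.projApp Z.subschemeι F G) (ProjFormLib.isIso_projApp Z.subschemeι hF G)
  haveI := hFG
  obtain ⟨E⟩ := QCohLib.nonempty_HH_push Z.subschemeι (CohB1.tensorMod (pb Z.subschemeι F) G) 1
  exact HdgLefLib.sub_iso (show _ ≅ CohB1.tensorMod F N from (congrRight F eG.symm ≪≫ pr).symm) 1 E.symm.injective.subsingleton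

open HodgeIdxLib in
include k in
/-- One component more. -/
theorem subsingleton_h1_step (hdim : topologicalKrullDim C ≤ 1) {F : C.Modules} (hF : FlatMod.IsFinLocFree F)
    (J Z : C.IdealSheafData) (hgg : Curv2.IsGloballyGenerated (pb Z.subschemeι F))
    (hJ : Subsingleton (Coh.HH C (ClSub.idealMod J) 1))
    (h : Subsingleton (Coh.HH C (CohB1.tensorMod F (ClSub.idealMod (J ⊓ Z))) 1)) :
    Subsingleton (Coh.HH C (CohB1.tensorMod F (ClSub.idealMod J)) 1) := by
  haveI := CurvLib.isNoetherian k (X := C)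
  let ψ : ClSub.idealMod J ⟶ ClSub.quotMod Z := ClSub.idealModι J ≫ ClSub.toSubscheme Z
  haveI : Mono (ClSub.idealModι J) := (CurvLib.idealSeq_shortExact J).mono_f
  haveI : Mono (CurvLib.idealSeq J).f := (CurvLib.idealSeq_shortExact J).mono_f
  haveI : Mono (ClSub.idealModι (J ⊓ Z)) := (CurvLib.idealSeq_shortExact (J ⊓ Z)).mono_f
  have hJc := SurfExtLib.isCoh_idealMod J
  have hQc := CurvLib.isCoh_quotMod Z
  let l₀ : ClSub.idealMod (J ⊓ Z) ⟶ ClSub.idealMod J :=
    (CurvLib.idealSeq_shortExact J).exact.lift (ClSub.idealModι (J ⊓ Z))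
      (NefH1Lib.Subcurve.idealModι_comp_toSubscheme inf_le_left)
  have hl₀ : l₀ ≫ ClSub.idealModι J = ClSub.idealModι (J ⊓ Z) :=
    (CurvLib.idealSeq_shortExact J).exact.lift_f _ _
  have hlψ : l₀ ≫ ψ = 0 := by
    rw [← Category.assoc, hl₀]
    exact NefH1Lib.Subcurve.idealModι_comp_toSubscheme inf_le_right
  let l : ClSub.idealMod (J ⊓ Z) ⟶ kernel ψ := kernel.lift ψ l₀ hlψ
  haveI : Epi l := by
    refine QCohLib.epi_of_surjective_on_affines _ fun V t p hp => ?_
    obtain ⟨U, hU, hpU, hle⟩ := exists_isAffineOpen_mem_and_subset (show p ∈ V from hp)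
    refine ⟨U, hle, hpU, ?_⟩
    let s := (kernel ψ).presheaf.map (homOfLE hle).op t
    let a : Γ(C, U) := (ClSub.idealModι J).app U ((kernel.ι ψ).app U s)
    have hmem : a ∈ (J ⊓ Z).ideal ⟨U, hU⟩ := by
      rw [Scheme.IdealSheafData.ideal_inf]
      refine ⟨(IntMultLib.toSubscheme_app_eq_zero_iff J ⟨U, hU⟩ _).1 ?_,
        (IntMultLib.toSubscheme_app_eq_zero_iff Z ⟨U, hU⟩ _).1 ?_⟩
      · exact congr(Scheme.Modules.Hom.app $((CurvLib.idealSeq J).zero) U ((kernel.ι ψ).app U s))
      · exact congr(Scheme.Modules.Hom.app $(kernel.condition ψ) U s)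
    obtain ⟨σ, hσ⟩ := IntMultLib.exists_section (J ⊓ Z) ⟨U, hU⟩ hmem
    refine ⟨σ, injective_app (kernel.ι ψ) U (injective_app (ClSub.idealModι J) U ?_)⟩
    refine Eq.trans ?_ hσ
    refine Eq.trans (congrArg ((ClSub.idealModι J).app U)
      (congr(Scheme.Modules.Hom.app $(kernel.lift_ι ψ l₀ hlψ) U σ))) ?_
    exact congr(Scheme.Modules.Hom.app $hl₀ U σ)
  have hK : Coh.IsCoh (kernel ψ) := QCohLib.isCoh_kernel ψ hJc hQc.1
  haveI : Coh.IsQCoh (kernel ψ) := hK.1
  haveI := hJc.1
  have hI : Coh.IsCoh (Abelian.image ψ) := by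
    haveI : Coh.IsQCoh (cokernel ψ) := (QCohLib.isCoh_cokernel ψ hJc.1 hQc).1
    exact QCohLib.isCoh_kernel _ hQc ‹_›
  have hkill : ClSub.KilledByIdeal Z (Abelian.image ψ) := fun U a ha m => by
    refine injective_app (Abelian.image.ι ψ) U.1 (Eq.trans ?_ (map_zero _).symm)
    refine Eq.trans (((Abelian.image.ι ψ).val.app (op U.1)).hom.map_smul a m) ?_
    refine (QCohLib.push_smul Z.subschemeι (Coh.structureModule Z.subscheme) a _).trans ?_
    rw [← Z.ker_subschemeι, Scheme.Hom.ker_apply, RingHom.mem_ker] at ha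
    rw [show Z.subschemeι.app U.1 a = 0 from ha]
    exact zero_smul Γ(Z.subscheme, Z.subschemeι ⁻¹ᵁ U.1)
      (show Γ(Coh.structureModule Z.subscheme, Z.subschemeι ⁻¹ᵁ U.1) from (Abelian.image.ι ψ).app U.1 m)
  have hN : Subsingleton (Coh.HH C (Abelian.image ψ) 1) :=
    h1_quot k hdim hJc.1 hI.1 (Abelian.factorThruImage ψ) hJ
  have hFN := subsingleton_h1_tensor_killed k hdim hF Z hgg hI hkill hN
  have hFc := VBResLib.isCoh_of_vb hF
  haveI := hFc.1
  haveI := (SurfExtLib.isCoh_idealMod (J ⊓ Z)).1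
  haveI : Epi (((DCoh.tensorBi (X := C)).obj F).map l) := inferInstance
  have hFK : Subsingleton (Coh.HH C (CohB1.tensorMod F (kernel ψ)) 1) :=
    h1_quot k hdim (Groth.Agent.S2297.result F (ClSub.idealMod (J ⊓ Z))).1 (Groth.Agent.S2297.result F (kernel ψ)).1
      (((DCoh.tensorBi (X := C)).obj F).map l) h
  exact subsingleton_mid k (LiftHomLib.shortExact_tensor hF (DevissLib.kerImSeq_shortExact ψ)) hFK hFN

open HodgeIdxLib in
include k in
/-- First cohomology is seen on a closed subscheme with ideal without first cohomology. -/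
theorem hh_one_eq_of_ideal (hdim : topologicalKrullDim C ≤ 1) {F : C.Modules} (hF : FlatMod.IsFinLocFree F)
    (J : C.IdealSheafData) (h : Subsingleton (Coh.HH C (CohB1.tensorMod F (ClSub.idealMod J)) 1)) :
    letI : J.subscheme.Over (Spec (CommRingCat.of k)) := ⟨J.subschemeι ≫ (C ↘ (Spec (CommRingCat.of k)))⟩
    hh k F 1 = hh k (pb J.subschemeι F) 1 := by
  letI : J.subscheme.Over (Spec (CommRingCat.of k)) := ⟨J.subschemeι ≫ (C ↘ (Spec (CommRingCat.of k)))⟩
  haveI := CurvLib.isNoetherian k (X := C)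
  let pr := @asIso _ _ _ _ (ProjFormLib.projApp J.subschemeι F (Coh.structureModule J.subscheme))
    (ProjFormLib.isIso_projApp J.subschemeι hF (Coh.structureModule J.subscheme))
  let S := (CurvLib.idealSeq J).map ((DCoh.tensorBi (X := C)).obj F)
  have hS : S.ShortExact := LiftHomLib.shortExact_tensor hF (CurvLib.idealSeq_shortExact J)
  have h₁ : Subsingleton (Coh.HH C S.X₁ 1) := h
  have h₂ : Subsingleton (Coh.HH C S.X₁ (1 + 1)) :=
    CurvLib.subsingleton_HH_of_dim_le _ hdim 2 (by norm_num)
  let e := LinearEquiv.ofBijective (CurvLib.hMap (k := k) S.g 1) ⟨by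
    rw [← LinearMap.ker_eq_bot, ← CurvLib.exact₂ (k := k) hS 1, LinearMap.range_eq_bot]
    exact LinearMap.ext fun x => by rw [Subsingleton.elim x 0, map_zero, map_zero], by
    rw [← LinearMap.range_eq_top, CurvLib.exact₃ (k := k) hS 1, LinearMap.ker_eq_top]
    exact LinearMap.ext fun x => Subsingleton.elim _ _⟩
  have h3 := e.finrank_eq
  change hh k S.X₂ 1 = hh k S.X₃ 1 at h3
  rw [hh_congr (k := k) (show S.X₂ ≅ F from swapIso _ _ ≪≫ unitLeft F) 1,
    hh_congr (k := k) (show S.X₃ ≅ _ from pr ≪≫ (Coh.push J.subschemeι).mapIso (swapIso _ _ ≪≫ unitLeft (pb J.subschemeι F))) 1] at h3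
  haveI : Coh.IsQCoh (pb J.subschemeι F) := by
    haveI : IsLocallyNoetherian J.subscheme := LocallyOfFiniteType.isLocallyNoetherian J.subschemeι
    exact (VBResLib.isCoh_of_vb (KFlatLib.isFinLocFree_pull J.subschemeι hF)).1
  exact h3.trans ((PushLinLib.euler_push k J.subschemeι rfl (pb J.subschemeι F)).1 1).symm

open HodgeIdxLib in
include k in
/-- Growing a connected subcurve component by component. -/
theorem subsingleton_h1_grow [IsAlgClosed k] [CharZero k] [IsReduced C] [ConnectedSpace C]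
    (hdim : topologicalKrullDim C ≤ 1) (h1 : Subsingleton (Coh.HH C (Coh.structureModule C) 1))
    {F : C.Modules} (hF : FlatMod.IsFinLocFree F) : ∀ (n : ℕ) (T : Set C), (∀ η ∈ T, IsMaxPt η) →
      ({η : C | IsMaxPt η} \ T).ncard = n → _root_.IsConnected (closure T) →
      (∀ η : C, IsMaxPt η → η ∉ T → Curv2.IsGloballyGenerated (pb (sub ({η} : Set C)).subschemeι F)) →
      Subsingleton (Coh.HH C (CohB1.tensorMod F (ClSub.idealMod (sub T))) 1) := by
  haveI := CurvLib.isNoetherian k (X := C)
  intro n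
  induction n with
  | zero =>
    intro T hTm hn hc hgg
    have hsub : ∀ η : C, IsMaxPt η → η ∈ T := fun η hη => by
      by_contra h
      exact Set.not_nonempty_iff_eq_empty.2 ((Set.ncard_eq_zero (finite_maxPts.sdiff)).1 hn) ⟨η, hη, h⟩
    have htop : (⟨closure T, isClosed_closure⟩ : Closeds C) = ⊤ := by
      refine Closeds.ext (Set.eq_univ_of_forall fun x => ?_)
      obtain ⟨η, hη, hsp⟩ := exists_maxPt x
      exact hsp.mem_closed isClosed_closure (subset_closure (hsub η hη))
    have hbot : sub T = ⊥ := by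
      rw [sub, htop, Scheme.IdealSheafData.vanishingIdeal_top, Scheme.nilradical_eq_bot]
    exact ParGPLib.subsingleton_HH_of_isZero k
      (((DCoh.tensorBi (X := C)).obj F).map_isZero (PnCohLib.isZero_idealMod_bot _ hbot)) 1
  | succ n ih =>
    intro T hTm hn hc hgg
    have hfin : ({η : C | IsMaxPt η} \ T).Finite := finite_maxPts.sdiff
    have hTf : T.Finite := finite_maxPts.subset hTm
    obtain ⟨η, ⟨hη, hηT⟩, hmeet⟩ : ∃ η ∈ ({η : C | IsMaxPt η} \ T), (closure T ∩ closure {η}).Nonempty := by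
      by_contra h
      simp only [not_exists, not_and] at h
      have hclB : closure ({η : C | IsMaxPt η} \ T) = ⋃ b ∈ ({η : C | IsMaxPt η} \ T), closure ({b} : Set C) := by
        conv_lhs => rw [← Set.biUnion_of_singleton ({η : C | IsMaxPt η} \ T)]
        exact hfin.closure_biUnion (fun a : C => ({a} : Set C))
      have hcompl : (closure T)ᶜ = closure ({η : C | IsMaxPt η} \ T) := by
        refine Set.Subset.antisymm (fun x hx => ?_) (fun x hx hxT => ?_)
        · obtain ⟨η, hη, hsp⟩ := exists_maxPt x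
          by_cases hηT : η ∈ T
          · exact absurd (hsp.mem_closed isClosed_closure (subset_closure hηT)) hx
          · exact hsp.mem_closed isClosed_closure (subset_closure ⟨hη, hηT⟩)
        · rw [hclB] at hx
          simp only [Set.mem_iUnion] at hx
          obtain ⟨b, hb, hxb⟩ := hx
          exact h b hb ⟨x, hxT, hxb⟩
      have hclopen : IsClopen (closure T) := ⟨isClosed_closure, by
        rw [← isClosed_compl_iff, hcompl]; exact isClosed_closure⟩
      have huniv : closure T = Set.univ := (isClopen_iff.1 hclopen).resolve_left hc.nonempty.ne_empty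
      obtain ⟨η, hη⟩ : ({η : C | IsMaxPt η} \ T).Nonempty := Set.nonempty_of_ncard_ne_zero (by omega)
      exact hη.2 (mem_of_mem_closure hTf hη.1 (huniv ▸ Set.mem_univ η))
    have hins : closure (insert η T) = closure T ∪ closure {η} := by
      rw [Set.insert_eq, closure_union, Set.union_comm]
    have hcT' : _root_.IsConnected (closure (insert η T)) := by
      rw [hins]; exact _root_.IsConnected.union hmeet hc isConnected_singleton.closure
    have hdiff : ({η : C | IsMaxPt η} \ insert η T) = ({η : C | IsMaxPt η} \ T) \ {η} := by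
      ext x
      simp only [Set.mem_sdiff, Set.mem_insert_iff, Set.mem_singleton_iff]
      tauto
    have hn' : ({η : C | IsMaxPt η} \ insert η T).ncard = n := by
      rw [hdiff, Set.ncard_sdiff_singleton_of_mem (show η ∈ ({η : C | IsMaxPt η} \ T) from ⟨hη, hηT⟩), hn]
      omega
    have h' := ih (insert η T) (fun x hx => hx.elim (fun e => e ▸ hη) (hTm x)) hn' hcT'
      (fun x hx hxT => hgg x hx fun h => hxT (Or.inr h))
    have hinf : sub (insert η T) = sub T ⊓ sub {η} := by
      rw [← Scheme.IdealSheafData.vanishingIdeal_sup]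
      exact congrArg Scheme.IdealSheafData.vanishingIdeal (Closeds.ext hins)
    haveI : IsReduced (sub T).subscheme := DevissLib.isReduced_vanishingIdeal' _
    haveI : ConnectedSpace (sub T).subscheme := by
      haveI := isConnected_iff_connectedSpace.1 (support_sub T ▸ hc : _root_.IsConnected ((sub T).support : Set C))
      exact ((sub T).subschemeι.isEmbedding.toHomeomorph.trans
        (Homeomorph.setCongr (sub T).range_subschemeι)).symm.surjective.connectedSpace (Homeomorph.continuous _)
    exact subsingleton_h1_step k hdim hF (sub T) (sub {η}) (hgg η hη hηT) (subsingleton_h1_ideal k h1 (sub T))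
      (hinf ▸ h')

end EllSecLib

end
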