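import Groth.Agent.QuadKerLib.Basic
import Groth.Agent.VBResLib.KFunct
import Groth.Agent.DimFieldBCLib.Prod
import Groth.Agent.GenusZeroLib.PSpace
import Groth.Agent.EllSecLib.TreeGrow
import Groth.Prelude.Def_W4c3multigrregularBiProj

/-!
# Bigraded regularity of tensor products
-/

set_option autoImplicit false
set_option linter.style.haveILetI false
set_option backward.isDefEq.respectTransparency false
set_option backward.isDefEq.respectTransparency.types false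
set_option maxHeartbeats 1000000

universe u

open CategoryTheory CategoryTheory.Limits AlgebraicGeometry TopologicalSpace Opposite
open HilbPolyLib QuadKerLib
open W4c3multigrregular (biProj twistBi lineBundle IsBiReg)

noncomputable section

namespace EllSecLib

variable {k : Type u} [Field k]

attribute [local instance] QuadKerLib.overX

theorem dim_quadric : topologicalKrullDim (X k) ≤ ((2 : ℕ) : WithBot ℕ∞) := by
  haveI : IsProper (CohB1.ProjSpace.toSpec 1 k) := ProjDegLib.toSpec_isProper k 1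
  rw [Groth.Agent.DimFieldBCLib.dim_prod, GenusZeroLib.dim_projSpace]
  norm_num

/-- Rearranging a tensor product of four factors. -/
def midSwap {Y : Scheme.{u}} (A B C D : Y.Modules) :
    CohB1.tensorMod (CohB1.tensorMod A B) (CohB1.tensorMod C D) ≅
      CohB1.tensorMod (CohB1.tensorMod A C) (CohB1.tensorMod B D) :=
  assocIso _ _ _ ≪≫ congrRight A ((assocIso _ _ _).symm ≪≫ congrLeft (swapIso _ _) _ ≪≫ assocIso _ _ _) ≪≫
    (assocIso _ _ _).symm

theorem vb_tensor' {Y : Scheme.{u}} [IsLocallyNoetherian Y] {A B : Y.Modules} (hA : FlatMod.IsFinLocFree A)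
    (hB : FlatMod.IsFinLocFree B) : FlatMod.IsFinLocFree (CohB1.tensorMod A B) :=
  VBResLib.vb_tensor B hA hB

theorem sub_tensor_free {M : (X k).Modules} [Coh.IsQCoh M] {q : ℕ} (h : Subsingleton (Coh.HH (X k) M q)) (N : ℕ) :
    Subsingleton (Coh.HH (X k) (CohB1.tensorMod M (FlatMod.freeMod (X k) N)) q) := by
  haveI := isProper_X k
  haveI := CurvLib.isNoetherian k (X := X k)
  haveI : (X k).IsSeparated := ⟨by
    rw [show terminal.from (X k) = (X k ↘ Spec (CommRingCat.of k)) ≫ terminal.from _ from terminal.hom_ext _ _]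
    infer_instance⟩
  let T := (DCoh.tensorBi (X := X k)).obj M
  let eT : T.obj (FlatMod.freeMod (X k) N) ≅ ∐ fun _ : Fin N => M :=
    PreservesCoproduct.iso T _ ≪≫ Sigma.mapIso fun _ => (swapIso _ _ ≪≫ unitLeft M)
  exact HdgLefLib.sub_iso ((Sigma.reindex (Equiv.ulift.{u} : ULift.{u} (Fin N) ≃ Fin N) (fun _ : Fin N => M)) ≪≫ eT.symm) q
    (AmpleAffLib.subsingleton_HH_sigma (F := fun _ : ULift.{u} (Fin N) => M) (fun _ => ‹_›) fun _ => h)

/-- Top cohomology passes to the tensor product with a generated module. -/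
theorem sub_h2 {M B : (X k).Modules} [Coh.IsQCoh M] (hB : Coh.IsCoh B) (hgg : Curv2.IsGloballyGenerated B)
    (h : Subsingleton (Coh.HH (X k) M 2)) : Subsingleton (Coh.HH (X k) (CohB1.tensorMod M B) 2) := by
  haveI := isProper_X k
  haveI := CurvLib.isNoetherian k (X := X k)
  obtain ⟨N, p, hp⟩ := VBResLib.exists_epi_free_of_gg hB hgg
  let π := ((DCoh.tensorBi (X := X k)).obj M).map p
  haveI : Epi π := inferInstance
  have hS : (ShortComplex.mk (kernel.ι π) π (kernel.condition π)).ShortExact :=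
    ShortComplex.ShortExact.mk (ShortComplex.exact_kernel π)
  exact HodgePnLib.sub₃ hS (sub_tensor_free h N)
    (CurvLib.subsingleton_HH_of_dim_le _ dim_quadric 3 (by norm_num))

/-- First cohomology passes to the tensor product with a regular generated module. -/
theorem sub_h1 {A B O₁ : (X k).Modules} (hA : FlatMod.IsFinLocFree A) (hggA : Curv2.IsGloballyGenerated A)
    (hB : FlatMod.IsFinLocFree B) (hggB : Curv2.IsGloballyGenerated B) (hO : PicF.IsInvertible O₁)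
    (hA1 : Subsingleton (Coh.HH (X k) (CohB1.tensorMod A O₁) 1))
    (hB1 : Subsingleton (Coh.HH (X k) (CohB1.tensorMod O₁ B) 1))
    (hO2 : Subsingleton (Coh.HH (X k) O₁ 2)) :
    Subsingleton (Coh.HH (X k) (CohB1.tensorMod (CohB1.tensorMod A O₁) B) 1) := by
  haveI := isProper_X k
  haveI := CurvLib.isNoetherian k (X := X k)
  have hO' := AmpleDevLib.isFinLocFree_of_isInvertible hO
  have hBc := VBResLib.isCoh_of_vb hB
  haveI := hBc.1
  haveI := (VBResLib.isCoh_of_vb hA).1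
  haveI := (VBResLib.isCoh_of_vb hO').1
  have hM := (Groth.Agent.S2297.result A O₁).1
  haveI := hM
  obtain ⟨N, p, hp⟩ := VBResLib.exists_epi_free_of_gg hBc hggB
  haveI := hp
  haveI : Coh.IsQCoh (FlatMod.freeMod (X k) N) := CurvLib.isQCoh_freeMod _ N
  have hT : (ShortComplex.mk (kernel.ι p) p (kernel.condition p)).ShortExact :=
    ShortComplex.ShortExact.mk (ShortComplex.exact_kernel p)
  haveI : Coh.IsQCoh (kernel p) := QCohLib.isQCoh_kernel p
  have hK : Subsingleton (Coh.HH (X k) (CohB1.tensorMod O₁ (kernel p)) (1 + 1)) :=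
    HodgePnLib.sub₁_succ (LiftHomLib.shortExact_tensor hO' hT) hB1 (sub_tensor_free hO2 N)
  haveI := (Groth.Agent.S2297.result O₁ (kernel p)).1
  have hMK : Subsingleton (Coh.HH (X k) (CohB1.tensorMod (CohB1.tensorMod A O₁) (kernel p)) (1 + 1)) :=
    HdgLefLib.sub_iso (swapIso _ _ ≪≫ (assocIso _ _ _).symm) _ (sub_h2 (VBResLib.isCoh_of_vb hA) hggA hK)
  exact HodgePnLib.sub₃ (LiftHomLib.shortExact_tensor (vb_tensor' hA hO') hT) (sub_tensor_free hA1 N) hMK

theorem twistBi_eq (G : (X k).Modules) (a b : ℤ) : twistBi 1 1 k G a b = CohB1.tensorMod G (bi k a b) := rfl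

theorem sub_twice (G₁ G₂ : (X k).Modules) (hG₁ : FlatMod.IsFinLocFree G₁) (hG₂ : FlatMod.IsFinLocFree G₂)
    (p q m n : ℤ) (hgg₁ : Curv2.IsGloballyGenerated (CohB1.tensorMod G₁ (bi k p q)))
    (hgg₂ : Curv2.IsGloballyGenerated (CohB1.tensorMod G₂ (bi k m n))) (u₁ u₂ : ℕ) (hu : 0 < u₁ + u₂)
    (hA : Subsingleton (Coh.HH (X k) (CohB1.tensorMod G₁ (bi k (p - u₁) (q - u₂))) (u₁ + u₂)))
    (hB : Subsingleton (Coh.HH (X k) (CohB1.tensorMod G₂ (bi k (m - u₁) (n - u₂))) (u₁ + u₂))) :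
    Subsingleton (Coh.HH (X k)
      (CohB1.tensorMod (CohB1.tensorMod G₁ G₂) (bi k (p + m - u₁) (q + n - u₂))) (u₁ + u₂)) := by
  haveI := isProper_X k
  haveI := CurvLib.isNoetherian k (X := X k)
  haveI := isLN_X k
  have hvb : ∀ {G : (X k).Modules} (_ : FlatMod.IsFinLocFree G) (a b : ℤ),
      FlatMod.IsFinLocFree (CohB1.tensorMod G (bi k a b)) := fun {G} hG a b =>
    vb_tensor' hG (AmpleDevLib.isFinLocFree_of_isInvertible (inv_bi k a b))
  obtain ⟨e⟩ := nonempty_bi_add k (p - u₁) (q - u₂) m n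
  have e12 : (p - u₁ + m = p + m - u₁) ∧ (q - u₂ + n = q + n - u₂) := ⟨by ring, by ring⟩
  refine HdgLefLib.sub_iso (midSwap G₁ (bi k (p - u₁) (q - u₂)) G₂ (bi k m n) ≪≫
    congrRight _ (e ≪≫ eqToIso (congrArg₂ (bi k) e12.1 e12.2))) _ ?_
  rcases le_or_gt 3 (u₁ + u₂) with h3 | h3
  · exact CurvLib.subsingleton_HH_of_dim_le _ dim_quadric _ (by omega)
  rcases Nat.lt_or_ge (u₁ + u₂) 2 with h2 | h2
  swap
  · haveI := (VBResLib.isCoh_of_vb (hvb hG₁ (p - u₁) (q - u₂))).1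
    obtain h2 : u₁ + u₂ = 2 := by omega
    rw [h2] at hA ⊢
    exact sub_h2 (VBResLib.isCoh_of_vb (hvb hG₂ m n)) hgg₂ hA
  obtain h1 : u₁ + u₂ = 1 := by omega
  rw [h1] at hA hB ⊢
  obtain ⟨eA⟩ := nonempty_bi_add k p q (-(u₁ : ℤ)) (-(u₂ : ℤ))
  obtain ⟨eB⟩ := nonempty_bi_add k m n (-(u₁ : ℤ)) (-(u₂ : ℤ))
  let fA : CohB1.tensorMod (CohB1.tensorMod G₁ (bi k p q)) (bi k (-(u₁ : ℤ)) (-(u₂ : ℤ))) ≅
      CohB1.tensorMod G₁ (bi k (p - u₁) (q - u₂)) :=
    assocIso _ _ _ ≪≫ congrRight _ (eA ≪≫ eqToIso (congrArg₂ (bi k) (sub_eq_add_neg p (u₁ : ℤ)).symm (sub_eq_add_neg q (u₂ : ℤ)).symm))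
  let fB : CohB1.tensorMod (bi k (-(u₁ : ℤ)) (-(u₂ : ℤ))) (CohB1.tensorMod G₂ (bi k m n)) ≅
      CohB1.tensorMod G₂ (bi k (m - u₁) (n - u₂)) :=
    swapIso _ _ ≪≫ assocIso _ _ _ ≪≫ congrRight _ (eB ≪≫ eqToIso (congrArg₂ (bi k) (sub_eq_add_neg m (u₁ : ℤ)).symm (sub_eq_add_neg n (u₂ : ℤ)).symm))
  refine HdgLefLib.sub_iso (congrLeft fA _) 1 (sub_h1 (hvb hG₁ p q) hgg₁ (hvb hG₂ m n) hgg₂ (inv_bi k _ _)
    (HdgLefLib.sub_iso fA.symm 1 hA) (HdgLefLib.sub_iso fB.symm 1 hB) ?_)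
  exact sub2 k _ _ (by omega)

/-- Tensor products of regular generated bundles are regular. -/
theorem isBiReg_tensor (G₁ G₂ : (biProj 1 1 k).Modules) (hG₁ : FlatMod.IsFinLocFree G₁) (hG₂ : FlatMod.IsFinLocFree G₂)
    (p q m n : ℤ) (hreg₁ : IsBiReg 1 1 k G₁ p q) (hreg₂ : IsBiReg 1 1 k G₂ m n)
    (hgg₁ : Curv2.IsGloballyGenerated (twistBi 1 1 k G₁ p q))
    (hgg₂ : Curv2.IsGloballyGenerated (twistBi 1 1 k G₂ m n)) :
    IsBiReg 1 1 k (CohB1.tensorMod G₁ G₂) (p + m) (q + n) := fun u₁ u₂ hu =>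
  sub_twice G₁ G₂ hG₁ hG₂ p q m n hgg₁ hgg₂ u₁ u₂ hu (hreg₁ u₁ u₂ hu) (hreg₂ u₁ u₂ hu)

end EllSecLib

end
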