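import Groth.Agent.AVIndexLib.LerayShift
import Groth.Agent.RuledSurfLib.Push
import Groth.Agent.EulerPnLib.Apps
import Groth.Agent.ProjKLib.CohK
import Groth.Agent.PnCohLib.Split
import Groth.Agent.PnCohLib.Serre
import Groth.Agent.VBP1Lib.Twist

/-!
# First cohomology of a direct image, and of coherent sheaves on the line
-/

set_option autoImplicit false
set_option linter.style.haveILetI false
set_option backward.isDefEq.respectTransparency false
set_option backward.isDefEq.respectTransparency.types false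
set_option maxHeartbeats 1000000

universe u

open CategoryTheory CategoryTheory.Limits AlgebraicGeometry TopologicalSpace Opposite CohCmpLib AVIndexLib
open KFlatLib (pb)

noncomputable section

namespace EllSecLib

/-- A monomorphism of modules is injective on sections. -/
theorem injective_app {X : Scheme.{u}} {L M : X.Modules} (q : L ⟶ M) [Mono q] (V : X.Opens) :
    Function.Injective (q.app V) := by
  haveI : PreservesFiniteLimits (Scheme.Modules.toPresheaf X) := PreservesLimitsOfSize.preservesFiniteLimits _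
  haveI : Mono ((Scheme.Modules.toPresheaf X).map q) := Functor.map_mono _ q
  haveI : Mono (((Scheme.Modules.toPresheaf X).map q).app (op V)) := inferInstance
  exact (AddCommGrpCat.mono_iff_injective _).1 ‹_›

section Low

variable {X Y : Scheme.{u}} {f : X ⟶ Y} [HasInjectiveResolutions X.Modules]

/-- The edge map in degree one, compatible with the functions on the base. -/
theorem exists_edge_one (Δ : RDer.DerivedLES (Scheme.Modules.pushforward f)) (F : X.Modules) :
    ∃ e : HC Y ((Coh.Rpush f 0).obj F) 1 →+ HC X F 1, Function.Injective e ∧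
      (∀ (r : Coh.Γtop Y) y, e (hs r _ 1 y) = hs (f.appTop r) F 1 (e y)) ∧
      (IsZero ((Coh.Rpush f 1).obj F) → Function.Surjective e) := by
  have hS := injSeqM_shortExact F
  let S := injSeqM F
  have hσ := imSeq_shortExact (Δ := Δ) hS
  let K := kernel (Δ.δ S hS 0 1 rfl)
  let j : K ⟶ (Coh.Rpush f 0).obj S.X₃ := kernel.ι _
  let φ : HC Y K 0 →+ HC Y ((Coh.Rpush f 0).obj F) 1 := hd hσ 0
  let ψ : HC Y K 0 →+ HC X F 1 := (hd hS 0).comp ((pushZero f S.X₃).symm.toAddMonoidHom.comp (hm j 0))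
  have hφ : Function.Surjective φ := fun y =>
    hd_exact₁ hσ 0 y (@Subsingleton.elim _ (subsingleton_HC_rpush_injective (f := f) S.X₂ 0) _ _)
  have hj : Function.Injective (hm j 0) := fun a b hab => (h0E K).injective
    (injective_app j ⊤ (by rw [← h0E_hm, ← h0E_hm, hab]))
  have e0 : ∀ w : HC X S.X₂ 0, pushZero f S.X₃ (hm S.g 0 w) =
      hm j 0 (hm (imSeq (Δ := Δ) hS).g 0 (pushZero f S.X₂ w)) := fun w => by
    rw [← hm_comp, kernel.lift_ι]
    exact pushZero_hm S.g w
  have hker : ∀ z, φ z = 0 ↔ ψ z = 0 := fun z => by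
    constructor
    · intro h
      obtain ⟨w, hw⟩ := hd_exact₃ hσ 0 z h
      obtain ⟨w, rfl⟩ := (pushZero f S.X₂).surjective w
      show hd hS 0 ((pushZero f S.X₃).symm (hm j 0 z)) = 0
      rw [← hw, ← e0, AddEquiv.symm_apply_apply]
      exact hm_g_hd hS 0 w
    · intro h
      obtain ⟨w, hw⟩ := hd_exact₃ hS 0 _ h
      have : z = hm (imSeq (Δ := Δ) hS).g 0 (pushZero f S.X₂ w) := hj (by
        rw [← e0, hw]; exact (AddEquiv.apply_symm_apply _ _).symm)
      rw [this]; exact hm_g_hd hσ 0 _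
  have hle : φ.ker ≤ ψ.ker := fun z hz => (hker z).1 hz
  let q := QuotientAddGroup.quotientKerEquivOfSurjective φ hφ
  let e : HC Y ((Coh.Rpush f 0).obj F) 1 →+ HC X F 1 :=
    (QuotientAddGroup.lift φ.ker ψ hle).comp q.symm.toAddMonoidHom
  have he : ∀ z, e (φ z) = ψ z := fun z => by
    have h : q.symm (φ z) = QuotientAddGroup.mk z := by rw [AddEquiv.symm_apply_eq]; rfl
    show QuotientAddGroup.lift φ.ker ψ hle (q.symm (φ z)) = _
    rw [h]; rfl
  refine ⟨e, fun a b hab => ?_, fun r y => ?_, fun h1 => ?_⟩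
  · obtain ⟨a, rfl⟩ := hφ a
    obtain ⟨b, rfl⟩ := hφ b
    rw [he, he] at hab
    exact sub_eq_zero.1 (by rw [← map_sub]; exact (hker _).2 (by rw [map_sub, hab, sub_self]))
  · obtain ⟨z, rfl⟩ := hφ y
    rw [he]
    have h1 : hs r _ 1 (φ z) = φ (hs r K 0 z) := (hd_hs hσ r 0 z).symm
    rw [h1, he]
    have h2 : (pushZero f S.X₃).symm (hm j 0 (hs r K 0 z)) = hs (f.appTop r) S.X₃ 0 ((pushZero f S.X₃).symm (hm j 0 z)) := by
      apply (pushZero f S.X₃).injective
      rw [AddEquiv.apply_symm_apply, pushZero_hs, AddEquiv.apply_symm_apply, hm_hs]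
    exact (congrArg _ h2).trans (hd_hs hS _ 0 _)
  · haveI : IsIso j := (deltaSeq_shortExact (Δ := Δ) hS).isIso_f_iff.2 h1
    intro x
    obtain ⟨w, rfl⟩ := hd_exact₁ hS 0 x (@Subsingleton.elim _ (LerayLowLib.subsingleton_HC_injective S.X₂ 0) _ _)
    refine ⟨φ (hm (inv j) 0 (pushZero f S.X₃ w)), ?_⟩
    rw [he]
    show hd hS 0 ((pushZero f S.X₃).symm (hm j 0 (hm (inv j) 0 (pushZero f S.X₃ w)))) = _
    rw [← hm_comp, IsIso.inv_hom_id, hm_id, AddEquiv.symm_apply_apply]

end Low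

theorem finrank_mid_le {K V₁ V₂ V₃ A B : Type*} [DivisionRing K] [AddCommGroup V₁] [Module K V₁] [AddCommGroup V₂] [Module K V₂]
    [AddCommGroup V₃] [Module K V₃] [AddCommGroup A] [Module K A] [AddCommGroup B] [Module K B]
    (h₁ : Module.Finite K V₁) (h₃ : Module.Finite K V₃) (f : V₁ →ₗ[K] V₂) (g : V₂ →ₗ[K] V₃)
    (hfg : LinearMap.range f = LinearMap.ker g) (p : V₂ →ₗ[K] A) (q : V₂ →ₗ[K] B)
    (hpq : Function.Surjective (p.prod q)) :
    Module.finrank K A + Module.finrank K B ≤ Module.finrank K V₁ + Module.finrank K V₃ := by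
  haveI : Module.Finite K (LinearMap.ker g) := hfg ▸ (inferInstance : Module.Finite K (LinearMap.range f))
  haveI : Module.Finite K (LinearMap.range g) := inferInstance
  haveI : Module.Finite K (V₂ ⧸ LinearMap.ker g) := Module.Finite.equiv g.quotKerEquivRange.symm
  haveI : Module.Finite K V₂ := Module.Finite.of_submodule_quotient (LinearMap.ker g)
  haveI := Module.Finite.of_surjective _ hpq
  haveI : Module.Finite K A := Module.Finite.of_surjective (LinearMap.fst K A B) LinearMap.fst_surjective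
  haveI : Module.Finite K B := Module.Finite.of_surjective (LinearMap.snd K A B) LinearMap.snd_surjective
  have h := LinearMap.finrank_le_finrank_of_surjective hpq
  rw [Module.finrank_prod] at h
  have a1 := LinearMap.finrank_range_add_finrank_ker g
  rw [← hfg] at a1
  have a2 := LinearMap.finrank_range_le f
  have a3 := Submodule.finrank_le (LinearMap.range g)
  omega

variable (k : Type u) [Field k] {X Y : Scheme.{u}} [X.Over (Spec (CommRingCat.of k))] [Y.Over (Spec (CommRingCat.of k))]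

/-- The first cohomology of a direct image injects, bijectively when the first higher image vanishes. -/
theorem exists_edge_linear (f : X ⟶ Y) (hf : f ≫ (Y ↘ Spec (CommRingCat.of k)) = X ↘ Spec (CommRingCat.of k))
    [HasInjectiveResolutions X.Modules] (F : X.Modules) :
    ∃ e : Coh.HH Y ((Coh.push f).obj F) 1 →ₗ[k] Coh.HH X F 1, Function.Injective e ∧
      (IsZero ((Coh.Rpush f 1).obj F) → Function.Surjective e) := by
  obtain ⟨Δ, -⟩ := CohCmpLib.exists_sectCmp f
  obtain ⟨e, hi, he, hsur⟩ := exists_edge_one Δ F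
  haveI := CohCmpLib.preservesFiniteLimits_push (f := f)
  let φ : (Coh.push f).obj F ≅ (Coh.Rpush f 0).obj F :=
    ((Scheme.Modules.pushforward f).rightDerivedZeroIsoSelf.app F).symm
  let g : Coh.HH Y ((Coh.Rpush f 0).obj F) 1 →ₗ[k] Coh.HH X F 1 :=
    { e with
      map_smul' := fun c y => by
        refine Eq.trans (he (Coh.toGlobal (Y ↘ Spec (CommRingCat.of k)) c) y) ?_
        refine congrArg (fun r => CohCmpLib.hs r F 1 (e y)) ?_
        show f.appTop ((Y ↘ Spec (CommRingCat.of k)).appTop _) = (X ↘ Spec (CommRingCat.of k)).appTop _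
        rw [← hf]
        rfl }
  exact ⟨g.comp (CurvLib.hIso (k := k) φ 1).toLinearMap, hi.comp (CurvLib.hIso (k := k) φ 1).injective,
    fun h => (hsur h).comp (CurvLib.hIso (k := k) φ 1).surjective⟩

theorem two_finrank_le {K V₁ V₂ V₃ W A : Type*} [DivisionRing K] [AddCommGroup V₁] [Module K V₁] [AddCommGroup V₂] [Module K V₂]
    [AddCommGroup V₃] [Module K V₃] [AddCommGroup W] [Module K W] [AddCommGroup A] [Module K A]
    (h₁ : Module.Finite K V₁) (h₃ : Module.Finite K V₃) (f : V₁ →ₗ[K] V₂) (g : V₂ →ₗ[K] V₃)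
    (hfg : LinearMap.range f = LinearMap.ker g) (u : V₂ ≃ₗ[K] W) (p q : W →ₗ[K] A) (i j : A →ₗ[K] W)
    (hpi : ∀ a, p (i a) = a) (hpj : ∀ a, p (j a) = 0) (hqi : ∀ a, q (i a) = 0) (hqj : ∀ a, q (j a) = a) :
    2 * Module.finrank K A ≤ Module.finrank K V₁ + Module.finrank K V₃ := by
  rw [two_mul]
  refine finrank_mid_le h₁ h₃ f g hfg (p.comp u.toLinearMap) (q.comp u.toLinearMap) fun ⟨a, b⟩ => ⟨u.symm (i a + j b), ?_⟩
  simp [hpi, hpj, hqi, hqj]

/-- A class and its two components. -/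
theorem two_mul_le_of_seq [IsProper (X ↘ Spec (CommRingCat.of k))] (M : X.Modules) (T : X.Modules ⥤ X.Modules) [T.Additive]
    {S : ShortComplex X.Modules} (hS : S.ShortExact) (e : S.X₂ ≅ T.obj (⨁ fun _ : Fin 2 => M))
    (h₁ : Module.Finite k (Coh.HH X S.X₁ 1)) (h₃ : Module.Finite k (Coh.HH X S.X₃ 1)) :
    2 * HodgeIdxLib.hh k (T.obj M) 1 ≤ HodgeIdxLib.hh k S.X₁ 1 + HodgeIdxLib.hh k S.X₃ 1 := by
  have hid : ∀ {A B : X.Modules} (φ : A ⟶ B) (ψ : B ⟶ A), φ ≫ ψ = 𝟙 A → ∀ a : Coh.HH X (T.obj A) 1,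
      CurvLib.hMap (k := k) (T.map ψ) 1 (CurvLib.hMap (k := k) (T.map φ) 1 a) = a := fun φ ψ h a => by
    refine (CurvLib.hMap_comp (k := k) (T.map φ) (T.map ψ) 1 a).symm.trans ?_
    rw [← T.map_comp, h, T.map_id, CurvLib.hMap_apply, CategoryTheory.Functor.map_id]
    exact Sheaf.H.map_id_apply a
  have hzero : ∀ {A B C : X.Modules} (φ : A ⟶ B) (ψ : B ⟶ C), φ ≫ ψ = 0 → ∀ a : Coh.HH X (T.obj A) 1,
      CurvLib.hMap (k := k) (T.map ψ) 1 (CurvLib.hMap (k := k) (T.map φ) 1 a) = 0 := fun φ ψ h a => by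
    refine (CurvLib.hMap_comp (k := k) (T.map φ) (T.map ψ) 1 a).symm.trans ?_
    rw [← T.map_comp, h, Functor.map_zero]
    exact PnCohLib.hMap_zero _ _ _ _
  exact two_finrank_le (K := k) h₁ h₃ (CurvLib.hMap (k := k) S.f 1) (CurvLib.hMap (k := k) S.g 1)
    (CurvLib.exact₂ (k := k) hS 1) (CurvLib.hIso (k := k) e 1)
    (CurvLib.hMap (k := k) (T.map (biproduct.π (fun _ : Fin 2 => M) 0)) 1)
    (CurvLib.hMap (k := k) (T.map (biproduct.π (fun _ : Fin 2 => M) 1)) 1)
    (CurvLib.hMap (k := k) (T.map (biproduct.ι (fun _ : Fin 2 => M) 0)) 1)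
    (CurvLib.hMap (k := k) (T.map (biproduct.ι (fun _ : Fin 2 => M) 1)) 1)
    (hid _ _ (biproduct.ι_π_self _ _)) (hzero _ _ (biproduct.ι_π_ne _ (by decide)))
    (hzero _ _ (biproduct.ι_π_ne _ (by decide))) (hid _ _ (biproduct.ι_π_self _ _))

open HodgeIdxLib in
/-- Convexity of the first cohomology of the twists. -/
theorem two_mul_twist_le {F : (CohB1.ProjSpace 1 k).Modules} (hF : Coh.IsCoh F) (d : ℤ) :
    2 * hh k (CohB1.tensorMod (Twist.twistProjSpace 1 k d) F) 1 ≤
      hh k (CohB1.tensorMod (Twist.twistProjSpace 1 k (d - 1)) F) 1 + hh k (CohB1.tensorMod (Twist.twistProjSpace 1 k (d + 1)) F) 1 := by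
  haveI := CurvLib.isNoetherian k (X := CohB1.ProjSpace 1 k)
  set O' := Twist.twistProjSpace 1 k
  have hO : ∀ d : ℤ, PicF.IsInvertible (O' d) := fun d => VBP1Lib.twist_inv k d
  have hc : ∀ d : ℤ, Coh.IsCoh (CohB1.tensorMod (O' d) F) := fun d => HilbPolyLib.isCoh_tensor (hO d) hF
  let t : ℤ → ℕ := fun d => hh k (CohB1.tensorMod (O' d) F) 1
  change 2 * t d ≤ t (d - 1) + t (d + 1)
  let A := CohB1.tensorMod (O' (d + 1)) F
  let S := (EulerPnLib.eulerSeq 1 k).map (DCoh.tensorRightMod A)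
  have hS : S.ShortExact := ProjKLib.shortExact_tensor_right (EulerPnLib.euler_shortExact 1 k)
    (CurveVBLib.isFinLocFree_of_rank (CurvLib.locFree_of_isInvertible (hO 0))) A
  obtain ⟨eΩ⟩ := EulerPnLib.omega_line_iso (k := k)
  have hj : ∀ a : ℤ, Nonempty (CohB1.tensorMod (O' a) A ≅ CohB1.tensorMod (O' (a + (d + 1))) F) := fun a => by
    obtain ⟨e⟩ := VBP1Lib.twist_add k a (d + 1)
    exact ⟨(HilbPolyLib.assocIso _ _ _).symm ≪≫ HilbPolyLib.congrLeft e F⟩
  obtain ⟨j2⟩ := hj (-2)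
  obtain ⟨j1⟩ := hj (-1)
  obtain ⟨j0⟩ := hj 0
  have e₁ : hh k S.X₁ 1 = t (d - 1) :=
    hh_congr (k := k) (HilbPolyLib.congrLeft eΩ A ≪≫ j2 ≪≫ eqToIso (by rw [show -2 + (d + 1) = d - 1 by ring])) 1
  have e₃ : hh k S.X₃ 1 = t (d + 1) :=
    hh_congr (k := k) (show S.X₃ ≅ _ from j0 ≪≫ eqToIso (by rw [zero_add])) 1
  have em : hh k (CohB1.tensorMod (O' (-1)) A) 1 = t d :=
    hh_congr (k := k) (j1 ≪≫ eqToIso (by rw [show -1 + (d + 1) = d by ring])) 1
  have h2 := two_mul_le_of_seq k (O' (-1)) (DCoh.tensorRightMod A) (S := S)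
    hS (Iso.refl _)
    (CurvLib.finite_HH (k := k) (X := CohB1.ProjSpace 1 k) (QCohLib.isCoh_of_iso (HilbPolyLib.congrLeft eΩ A).symm (HilbPolyLib.isCoh_tensor (hO _) (hc _))) 1)
    (CurvLib.finite_HH (k := k) (X := CohB1.ProjSpace 1 k) (HilbPolyLib.isCoh_tensor (hO _) (hc _)) 1)
  change 2 * hh k (CohB1.tensorMod (O' (-1)) A) 1 ≤ hh k S.X₁ 1 + hh k S.X₃ 1 at h2
  change 2 * t d ≤ _
  omega


open HodgeIdxLib in
/-- On the line, a coherent sheaf whose first cohomology does not drop upon the first twist has none. -/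
theorem subsingleton_h1_of_le {F : (CohB1.ProjSpace 1 k).Modules} (hF : Coh.IsCoh F)
    (h : hh k (CohB1.tensorMod F (Twist.twistProjSpace 1 k (-1))) 1 ≤ hh k F 1) :
    Subsingleton (Coh.HH (CohB1.ProjSpace 1 k) F 1) ∧
      Subsingleton (Coh.HH (CohB1.ProjSpace 1 k) (CohB1.tensorMod F (Twist.twistProjSpace 1 k (-1))) 1) := by
  haveI := CurvLib.isNoetherian k (X := CohB1.ProjSpace 1 k)
  set O' := Twist.twistProjSpace 1 k
  have hO : ∀ d : ℤ, PicF.IsInvertible (O' d) := fun d => VBP1Lib.twist_inv k d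
  have hc : ∀ d : ℤ, Coh.IsCoh (CohB1.tensorMod (O' d) F) := fun d => HilbPolyLib.isCoh_tensor (hO d) hF
  let t : ℤ → ℕ := fun d => hh k (CohB1.tensorMod (O' d) F) 1
  obtain ⟨e0⟩ := VBP1Lib.twist_zero k
  have h0 : t 0 = hh k F 1 := hh_congr (k := k) (HilbPolyLib.congrLeft e0 F ≪≫ HilbPolyLib.unitLeft F) 1
  have hconv : ∀ d : ℤ, 2 * t d ≤ t (d - 1) + t (d + 1) := fun d => two_mul_twist_le k hF d
  obtain ⟨d₀, hd₀⟩ := PnCohLib.exists_vanishing_twist (n := 1) k F hF
  have hneg : t (-1) ≤ t 0 := by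
    rw [h0]
    exact (hh_congr (k := k) (HilbPolyLib.swapIso _ _) 1).trans_le h
  have hmono : ∀ m : ℕ, t ((m : ℤ) - 1) ≤ t (m : ℤ) := fun m => by
    induction m with
    | zero => simpa using hneg
    | succ m ih =>
      have := hconv (m : ℤ)
      push_cast
      rw [add_sub_cancel_right]
      omega
  have hle : ∀ m : ℕ, t 0 ≤ t (m : ℤ) := fun m => by
    induction m with
    | zero => exact le_rfl
    | succ m ih =>
      have := hmono (m + 1)
      push_cast at this ⊢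
      rw [add_sub_cancel_right] at this
      omega
  have hN : t (d₀.toNat : ℤ) = 0 := by
    haveI := hd₀ (d₀.toNat : ℤ) (Int.self_le_toNat d₀) 1 Nat.one_pos
    exact (hh_congr (k := k) (HilbPolyLib.swapIso _ _) 1).trans Module.finrank_zero_of_subsingleton
  have z0 : t 0 = 0 := Nat.eq_zero_of_le_zero ((hle d₀.toNat).trans hN.le)
  haveI := CurvLib.finite_HH (k := k) hF 1
  haveI := CurvLib.finite_HH (k := k) (QCohLib.isCoh_of_iso (HilbPolyLib.swapIso (O' (-1)) F) (hc (-1))) 1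
  exact ⟨(Module.finrank_zero_iff (R := k)).1 (show hh k F 1 = 0 by omega),
    (Module.finrank_zero_iff (R := k)).1 (show hh k (CohB1.tensorMod F (O' (-1))) 1 = 0 by omega)⟩

end EllSecLib

end
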