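import Groth.Agent.AmpleDevLib.Devissage
import Groth.Agent.AmpleDevLib.Pull
import Groth.Agent.AmpleDevLib.Components
import Groth.Agent.DevissLib.AnnIdeal
import Groth.Agent.DevissLib.ClosedImm
import Groth.Agent.DevissLib.KilledImm
import Groth.Agent.BlowRegLib.Codim
import Groth.Agent.BlowRegLib.PosE
import Groth.Agent.SurfAmpleLib.CurveH0
import Groth.Agent.NormGenusLib.Components
import Groth.Agent.VBResLib.KPull
import Groth.Agent.EllSecLib.LowLeray
import Groth.Agent.AVVanishLib.Family
import Groth.Agent.SurfExtLib.CBGeom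

/-!
# First cohomology of twists along a map contracting only rational trees
-/

set_option autoImplicit false
set_option linter.style.haveILetI false
set_option backward.isDefEq.respectTransparency false
set_option backward.isDefEq.respectTransparency.types false
set_option maxHeartbeats 1000000

universe u

open CategoryTheory CategoryTheory.Limits AlgebraicGeometry TopologicalSpace Opposite
open HilbPolyLib DevissLib
open KFlatLib (pb)

noncomputable section

namespace EllSecLib

/-- Cohomology of a disjoint union of two opens. -/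
theorem subsingleton_HU_sup {Y : TopCat.{u}} {F : QCohLib.AbSh Y} {n : ℕ} {U V : Opens Y} (h : U ⊓ V = ⊥)
    (hU : Subsingleton (QCohLib.HU F (n + 1) U)) (hV : Subsingleton (QCohLib.HU F (n + 1) V)) :
    Subsingleton (QCohLib.HU F (n + 1) (U ⊔ V)) := by
  refine subsingleton_of_forall_eq 0 fun z => ?_
  have hS := QCohLib.mvSeq_shortExact U V
  have hz0 : IsZero (QCohLib.mvSeq U V).X₁ := by
    show IsZero (QCohLib.zsh (U ⊓ V))
    rw [h]
    exact QCohLib.isZero_zsh_bot
  have hw : (Abelian.Ext.mk₀ (QCohLib.mvSeq U V).g).comp z (zero_add (n + 1)) = 0 := by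
    apply Abelian.Ext.biprod_ext
    · exact hU.elim _ _
    · exact hV.elim _ _
  obtain ⟨x, hx⟩ := Abelian.Ext.contravariant_sequence_exact₃ hS F z hw (n₀ := n) (by omega)
  have h1 : x = 0 := by
    rw [← Abelian.Ext.mk₀_id_comp x, hz0.eq_of_src (𝟙 _) 0, Abelian.Ext.mk₀_zero, Abelian.Ext.zero_comp]
  rw [← hx, h1, Abelian.Ext.comp_zero]

/-- The open piece over a connected component. -/
def compOpen (Y : Scheme.{u}) [NoetherianSpace Y] (c : _root_.ConnectedComponents Y) : Y.Opens :=
  ⟨(↑) ⁻¹' ({c} : Set (_root_.ConnectedComponents Y)), by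
    haveI := SteinLib.finite_connectedComponents Y
    rw [← isClosed_compl_iff, ← Set.preimage_compl,
      ← Set.biUnion_of_singleton ({c}ᶜ : Set (_root_.ConnectedComponents Y)), Set.preimage_iUnion₂]
    refine (Set.toFinite ({c}ᶜ : Set (_root_.ConnectedComponents Y))).isClosed_biUnion fun d _ => ?_
    obtain ⟨a, rfl⟩ := _root_.ConnectedComponents.surjective_coe d
    rw [connectedComponents_preimage_singleton]
    exact isClosed_connectedComponent⟩

/-- Vanishing on every connected component. -/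
theorem subsingleton_HH_of_components {Y : Scheme.{u}} [NoetherianSpace Y] (M : Y.Modules) (n : ℕ)
    (h : ∀ c, Subsingleton (Coh.HH (compOpen Y c : Scheme.{u}) (M.restrict (compOpen Y c).ι) (n + 1))) :
    Subsingleton (Coh.HH Y M (n + 1)) := by
  classical
  haveI := SteinLib.finite_connectedComponents Y
  letI := Fintype.ofFinite (_root_.ConnectedComponents Y)
  have hall : ∀ S : Finset (_root_.ConnectedComponents Y),
      Subsingleton (QCohLib.HU ((QCohLib.toAbF Y).obj M) (n + 1) (S.sup (compOpen Y))) := fun S => by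
    induction S using Finset.induction_on with
    | empty =>
      refine subsingleton_of_forall_eq 0 fun z => ?_
      have hz : IsZero (QCohLib.zsh ((∅ : Finset (_root_.ConnectedComponents Y)).sup (compOpen Y))) := by
        rw [Finset.sup_empty]; exact QCohLib.isZero_zsh_bot
      exact (Abelian.Ext.mk₀_id_comp z).symm.trans ((congrArg (fun f => (Abelian.Ext.mk₀ f).comp z (zero_add _))
        (hz.eq_of_src _ 0)).trans (by simp))
    | insert a S ha ih =>
      rw [Finset.sup_insert]
      refine subsingleton_HU_sup ?_ ?_ ih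
      · rw [inf_comm, ← le_bot_iff]
        intro y hy
        obtain ⟨hy1, hy2⟩ := hy
        obtain ⟨b, hb, hyb⟩ : ∃ b ∈ S, y ∈ compOpen Y b := by
          rw [Finset.sup_eq_iSup] at hy1
          simpa [Opens.mem_iSup] using hy1
        exact ha ((show _ = a from hy2) ▸ (show _ = b from hyb) ▸ hb)
      · obtain ⟨e⟩ := QCohLib.nonempty_HU_restrict (compOpen Y a).ι M (n + 1) ⊤
        have hsub := @Function.Surjective.subsingleton _ _ _ ((QCohLib.subsingleton_H_iff _ (n + 1)).1 (h a)) e.surjective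
        rwa [show (compOpen Y a).ι ''ᵁ ⊤ = compOpen Y a from (Scheme.Opens.ι_image_top _)] at hsub
  refine (QCohLib.subsingleton_H_iff _ (n + 1)).2 ?_
  have htop : (Finset.univ.sup (compOpen Y)) = ⊤ := top_le_iff.1 fun y _ => by
    exact (Finset.le_sup (f := compOpen Y) (Finset.mem_univ (y : _root_.ConnectedComponents Y))) (show y ∈ compOpen Y _ from rfl)
  exact htop ▸ hall Finset.univ

variable {k : Type u} [Field k] {C P : Scheme.{u}} [C.Over (Spec (CommRingCat.of k))]
  [IsProper (C ↘ Spec (CommRingCat.of k))]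

theorem le_zero_of_le_one {x : WithBot ℕ∞} (h : x ≤ 1) (h' : x ≠ 1) : x ≤ 0 := by
  induction x with
  | bot => exact bot_le
  | coe a =>
    have h1 : a < 1 := lt_of_le_of_ne (WithBot.coe_le_coe.1 h) fun e => h' (by rw [e]; rfl)
    exact WithBot.coe_le_coe.2 (ENat.lt_one_iff_eq_zero.1 h1).le

omit [C.Over (Spec (CommRingCat.of k))] [IsProper (C ↘ Spec (CommRingCat.of k))] in
/-- A closed set of closed points has dimension zero. -/
theorem dim_le_zero_of_closed_points {S : Set C} (hS : IsClosed S) (h : ∀ x ∈ S, IsClosed ({x} : Set C)) :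
    topologicalKrullDim S ≤ 0 := by
  haveI : T1Space S := ⟨fun ⟨x, hx⟩ => by
    have := (h x hx).preimage (continuous_subtype_val (p := fun z => z ∈ S))
    convert this using 1
    ext z
    simp [Subtype.ext_iff]⟩
  haveI : QuasiSober S := hS.isClosedEmbedding_subtypeVal.quasiSober
  refine iSup_le fun p => ?_
  rcases Nat.eq_zero_or_pos p.length with h0 | h0
  · simp [h0]
  exfalso
  have hsing : ∀ A : IrreducibleCloseds S, ∃ a, (A : Set S) = {a} := fun A => by
    obtain ⟨a, ha⟩ := QuasiSober.sober A.2 A.3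
    exact ⟨a, ha.def.symm.trans closure_singleton⟩
  obtain ⟨a, ha⟩ := hsing (p ⟨0, by omega⟩)
  obtain ⟨b, hb⟩ := hsing (p ⟨1, by omega⟩)
  have hlt : (p ⟨0, by omega⟩ : Set S) ⊂ (p ⟨1, by omega⟩ : Set S) := p.step ⟨0, h0⟩
  rw [ha, hb, Set.ssubset_singleton_iff] at hlt
  exact Set.singleton_ne_empty _ hlt

variable (k) in
include k in
/-- A closed set all of whose non-generic points are closed meets each fibre finitely. -/
theorem finite_inter_fibre [IsReduced C] (hC : topologicalKrullDim C ≤ 1) (π : C ⟶ P) {Z : Set C}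
    (hZc : IsClosed Z) (hZi : IsIrreducible Z) (hne : ¬ ∀ x ∈ Z, ∀ y ∈ Z, π x = π y) (hmap : IsClosedMap π) (t : P) :
    (Z ∩ π ⁻¹' {t}).Finite := by
  haveI := CurvLib.isNoetherian k (X := C)
  let η := hZi.genericPoint
  have hη : IsGenericPoint η Z := by
    have := hZi.isGenericPoint_genericPoint_closure
    rwa [hZc.closure_eq] at this
  have hclosed : ∀ x ∈ Z, x ≠ η → IsClosed ({x} : Set C) := fun x hx hxη => by
    haveI : IrreducibleSpace Z := Subtype.irreducibleSpace hZi
    let T : Set Z := Subtype.val ⁻¹' closure {x}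
    have hT : IsClosed T := isClosed_closure.preimage continuous_subtype_val
    have hTne : T ≠ Set.univ := fun h => hxη (by
      have h1 : (⟨η, hη.mem⟩ : Z) ∈ T := h ▸ Set.mem_univ _
      exact ((hη.specializes hx).antisymm (specializes_iff_mem_closure.2 h1)).symm.eq)
    have hd : topologicalKrullDim T ≤ 0 := by
      rcases eq_or_ne (topologicalKrullDim Z) 1 with h | h
      · exact CurvLib.topologicalKrullDim_le_zero_of_lt h hT hTne
      · refine (topologicalKrullDim_subspace_le _ T).trans ?_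
        have h1 : topologicalKrullDim Z ≤ 1 := (topologicalKrullDim_subspace_le _ _).trans hC
        exact le_zero_of_le_one h1 h
    have hd' : topologicalKrullDim (closure ({x} : Set C)) ≤ 0 := by
      refine (IsHomeomorph.topologicalKrullDim_eq _ (Homeomorph.isHomeomorph (X := T) (Y := closure ({x} : Set C))
        { toFun := fun z => ⟨z.1.1, z.2⟩
          invFun := fun z => ⟨⟨z.1, closure_minimal (Set.singleton_subset_iff.2 hx) hZc z.2⟩, z.2⟩
          left_inv := fun z => rfl
          right_inv := fun z => rfl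
          continuous_toFun := by fun_prop
          continuous_invFun := by fun_prop })).symm.trans_le hd
    exact (CurvLib.finite_isClosed_of_dim_le_zero isClosed_closure hd').2 x (subset_closure rfl)
  by_cases ht : IsClosed ({t} : Set P)
  · have hS : IsClosed (Z ∩ π ⁻¹' {t}) := hZc.inter (ht.preimage π.continuous)
    have hη' : η ∉ Z ∩ π ⁻¹' {t} := fun h => hne fun x hx y hy => by
      have hsub : Z ⊆ π ⁻¹' {t} := hη.def ▸ closure_minimal (Set.singleton_subset_iff.2 h.2) (ht.preimage π.continuous)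
      exact (hsub hx).trans (hsub hy).symm
    have hd : topologicalKrullDim (Z ∩ π ⁻¹' {t} : Set C) ≤ 0 :=
      dim_le_zero_of_closed_points hS fun x hx => hclosed x hx.1 (fun h => hη' (h ▸ hx))
    exact (CurvLib.finite_isClosed_of_dim_le_zero hS hd).1
  · refine (Set.finite_singleton η).subset fun x hx => by_contra fun hxη => ht ?_
    have h := hmap _ (hclosed x hx.1 hxη)
    rwa [Set.image_singleton, show π x = t from hx.2] at h

variable (k) in
include k in
/-- On a contracted connected piece the twists are trivial and have no first cohomology. -/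
theorem subsingleton_h1_component [IsReduced C] (hC : topologicalKrullDim C ≤ 1) [P.Over (Spec (CommRingCat.of k))]
    [IsProper (P ↘ Spec (CommRingCat.of k))] (π : C ⟶ P)
    (hπ : π ≫ (P ↘ Spec (CommRingCat.of k)) = C ↘ Spec (CommRingCat.of k)) {A : P.Modules} (hA : PicF.IsInvertible A)
    (hcontr : ∀ J : C.IdealSheafData, IsReduced J.subscheme → ConnectedSpace J.subscheme →
      topologicalKrullDim J.subscheme = 1 →
      (∀ x y : J.subscheme, (J.subschemeι ≫ π).base x = (J.subschemeι ≫ π).base y) →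
      @Curv2.genus k _ J.subscheme ⟨J.subschemeι ≫ (C ↘ (Spec (CommRingCat.of k)))⟩ = 0)
    (Yc : Closeds C) [NoetherianSpace (Scheme.IdealSheafData.vanishingIdeal Yc).subscheme]
    (hY : ∀ x ∈ (Yc : Set C), ∃ Z ∈ irreducibleComponents C, x ∈ Z ∧ Z ⊆ (Yc : Set C) ∧ ∀ a ∈ Z, ∀ b ∈ Z, π a = π b)
    (c : _root_.ConnectedComponents (Scheme.IdealSheafData.vanishingIdeal Yc).subscheme) (n : ℕ) :
    Subsingleton (Coh.HH (compOpen _ c : Scheme.{u}) ((pb (Scheme.IdealSheafData.vanishingIdeal Yc).subschemeι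
      (CohB1.tensorPow (pb π A) n)).restrict (compOpen _ c).ι) 1) := by
  haveI := CurvLib.isNoetherian k (X := C)
  let IY := Scheme.IdealSheafData.vanishingIdeal Yc
  haveI : IsReduced IY.subscheme := DevissLib.isReduced_vanishingIdeal' Yc
  haveI : IsProper π := by
    haveI : IsProper (π ≫ (P ↘ Spec (CommRingCat.of k))) := by rw [hπ]; infer_instance
    exact IsProper.of_comp π (P ↘ Spec (CommRingCat.of k))
  let U := compOpen IY.subscheme c
  obtain ⟨a₀, ha₀⟩ := _root_.ConnectedComponents.surjective_coe c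
  have hUset : (U : Set IY.subscheme) = connectedComponent a₀ := by
    show ((↑) : IY.subscheme → _root_.ConnectedComponents IY.subscheme) ⁻¹' {c} = _
    rw [← ha₀]; exact connectedComponents_preimage_singleton
  haveI : IsClosedImmersion U.ι := IsClosedImmersion.of_isPreimmersion _ (by
    rw [Scheme.Opens.range_ι, hUset]; exact isClosed_connectedComponent)
  let g : (U : Scheme.{u}) ⟶ C := U.ι ≫ IY.subschemeι
  have hrg : Set.range g = IY.subschemeι '' (U : Set IY.subscheme) := by
    rw [Scheme.Hom.comp_base, TopCat.coe_comp, Set.range_comp, Scheme.Opens.range_ι]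
  -- constant on the component
  have hcst : ∀ w : U, π (g w) = π (IY.subschemeι a₀) := by
    have hfinY : (π '' (Yc : Set C)).Finite := by
      refine (Set.Finite.biUnion (NoetherianSpace.finite_irreducibleComponents (α := C)) (t := fun Z => {q | q ∈ π '' Z ∧ ∀ a ∈ Z, π a = q})
        fun Z _ => (Set.Subsingleton.finite fun q hq q' hq' => ?_)).subset ?_
      · obtain ⟨a, ha, rfl⟩ := hq.1
        exact hq'.2 a ha
      · rintro _ ⟨x, hx, rfl⟩
        obtain ⟨Z, hZ, hxZ, -, hcon⟩ := hY x hx
        exact Set.mem_biUnion hZ ⟨⟨x, hxZ, rfl⟩, fun a ha => hcon a ha x hxZ⟩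
    have hclY : ∀ q ∈ π '' (Yc : Set C), IsClosed ({q} : Set P) := by
      rintro _ ⟨x, hx, rfl⟩
      obtain ⟨Z, hZ, hxZ, -, hcon⟩ := hY x hx
      have h := π.isClosedMap Z (isClosed_of_mem_irreducibleComponents Z hZ)
      rwa [show π '' Z = {π x} from Set.eq_singleton_iff_unique_mem.2 ⟨⟨x, hxZ, rfl⟩, by
        rintro _ ⟨a, ha, rfl⟩; exact hcon a ha x hxZ⟩] at h
    intro w
    let F : IY.subscheme → P := fun y => π (IY.subschemeι y)
    have hF : Continuous F := π.continuous.comp IY.subschemeι.continuous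
    have hpre : _root_.IsPreconnected (F '' connectedComponent a₀) := isPreconnected_connectedComponent.image F hF.continuousOn
    have hsub : F '' connectedComponent a₀ ⊆ π '' (Yc : Set C) := by
      rintro _ ⟨y, -, rfl⟩
      refine ⟨IY.subschemeι y, ?_, rfl⟩
      have : IY.subschemeι y ∈ (IY.support : Set C) := IY.range_subschemeι.le ⟨y, rfl⟩
      rwa [Scheme.IdealSheafData.coe_support_vanishingIdeal] at this
    by_contra hne
    obtain ⟨q, -, hq1, hq2⟩ := isPreconnected_closed_iff.1 hpre {F a₀} (((π '' (Yc : Set C)) \ {F a₀}))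
      (hclY _ (hsub ⟨a₀, mem_connectedComponent, rfl⟩))
      (by
        rw [← Set.biUnion_of_singleton ((π '' (Yc : Set C)) \ {F a₀})]
        exact hfinY.sdiff.isClosed_biUnion fun q hq => hclY q hq.1)
      (fun q hq => by
        by_cases h : q = F a₀
        · exact Or.inl h
        · exact Or.inr ⟨hsub hq, h⟩)
      ⟨F a₀, ⟨a₀, mem_connectedComponent, rfl⟩, rfl⟩
      ⟨F w.1, ⟨w.1, hUset.le w.2, rfl⟩, hsub ⟨w.1, hUset.le w.2, rfl⟩, hne⟩
    exact hq2.2 hq1
  -- the bundle is trivial there
  obtain ⟨W, htW, ⟨eW⟩⟩ := AmpleThLib.tensorPow_isInvertible hA n (π (IY.subschemeι a₀))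
  have hrange : Set.range (g ≫ π) ⊆ Set.range W.ι := by
    rintro _ ⟨w, rfl⟩
    rw [Scheme.Opens.range_ι]
    show π (g w) ∈ W
    rw [hcst w]; exact htW
  let g' := IsOpenImmersion.lift W.ι (g ≫ π) hrange
  obtain ⟨φ, -⟩ := AmpleDevLib.exists_pullPowIso π hA n
  let e : (pb IY.subschemeι (CohB1.tensorPow (pb π A) n)).restrict U.ι ≅ Coh.structureModule (U : Scheme.{u}) :=
    (Scheme.Modules.restrictFunctorIsoPullback U.ι).app _ ≪≫ (Scheme.Modules.pullbackComp U.ι IY.subschemeι).app _ ≪≫
      (Scheme.Modules.pullback g).mapIso φ.symm ≪≫ (Scheme.Modules.pullbackComp g π).app _ ≪≫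
      (Scheme.Modules.pullbackCongr (IsOpenImmersion.lift_fac W.ι (g ≫ π) hrange).symm).app _ ≪≫
      ((Scheme.Modules.pullbackComp g' W.ι).app _).symm ≪≫
      (Scheme.Modules.pullback g').mapIso (((Scheme.Modules.restrictFunctorIsoPullback W.ι).app _).symm ≪≫ eW) ≪≫
      KFlatLib.pullUnitIso g'
  suffices hO : Subsingleton (Coh.HH (U : Scheme.{u}) (Coh.structureModule (U : Scheme.{u})) 1) by
    exact HdgLefLib.sub_iso e.symm 1 hO
  have hdU : topologicalKrullDim (U : Scheme.{u}) ≤ 1 :=
    ((g.isEmbedding.isInducing.topologicalKrullDim_le).trans hC)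
  rcases eq_or_ne (topologicalKrullDim (U : Scheme.{u})) 1 with hd1 | hd1
  swap
  · haveI : NoetherianSpace (U : Scheme.{u}) := U.ι.isEmbedding.isInducing.noetherianSpace
    exact CurvLib.subsingleton_HH_of_dim_le _ (le_zero_of_le_one hdU hd1) 1 Nat.one_pos
  let J := g.ker
  haveI : IsClosedImmersion g := inferInstance
  let ej : (U : Scheme.{u}) ≅ J.subscheme := asIso g.toImage
  haveI : IsReduced J.subscheme := isReduced_of_isOpenImmersion ej.inv
  haveI : ConnectedSpace U := isConnected_iff_connectedSpace.1 (hUset ▸ isConnected_connectedComponent)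
  haveI : ConnectedSpace J.subscheme := ej.hom.surjective.connectedSpace ej.hom.continuous
  have hJd : topologicalKrullDim J.subscheme = 1 := by
    rw [← hd1]; exact (ej.inv.homeomorph.isHomeomorph.topologicalKrullDim_eq)
  letI : J.subscheme.Over (Spec (CommRingCat.of k)) := ⟨J.subschemeι ≫ (C ↘ (Spec (CommRingCat.of k)))⟩
  haveI : IsProper (J.subscheme ↘ Spec (CommRingCat.of k)) :=
    inferInstanceAs (IsProper (J.subschemeι ≫ (C ↘ (Spec (CommRingCat.of k)))))
  have h0 := hcontr J inferInstance inferInstance hJd (fun x y => by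
    obtain ⟨x, rfl⟩ := ej.hom.surjective x
    obtain ⟨y, rfl⟩ := ej.hom.surjective y
    show π (J.subschemeι (g.toImage x)) = π (J.subschemeι (g.toImage y))
    have e : ∀ z, J.subschemeι (g.toImage z) = g z := fun z => congr($(g.toImage_imageι) z)
    rw [e x, e y, hcst x, hcst y])
  haveI := CurvLib.finite_HH (k := k) (DevissLib.isCoh_structureModule J.subscheme) 1
  have hJ : Subsingleton (Coh.HH J.subscheme (Coh.structureModule J.subscheme) 1) :=
    (Module.finrank_zero_iff (R := k)).1 h0
  exact HdgLefLib.sub_iso (KFlatLib.pullUnitIso ej.hom) 1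
    (BlowRegLib.subsingleton_HH_clopen ej.hom (by rw [ej.hom.surjective.range_eq]; exact isClosed_univ) _ 1 hJ)

theorem subsingleton_mid (k : Type u) [Field k] [C.Over (Spec (CommRingCat.of k))] {S : ShortComplex C.Modules}
    (hS : S.ShortExact) (h₁ : Subsingleton (Coh.HH C S.X₁ 1)) (h₃ : Subsingleton (Coh.HH C S.X₃ 1)) :
    Subsingleton (Coh.HH C S.X₂ 1) := subsingleton_of_forall_eq 0 fun y => by
  have hy : y ∈ LinearMap.ker (CurvLib.hMap (k := k) S.g 1) := Subsingleton.elim _ _
  rw [← CurvLib.exact₂ (k := k) hS 1] at hy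
  obtain ⟨x, rfl⟩ := hy
  rw [Subsingleton.elim x 0, map_zero]

variable [IsReduced C] (k)

open HodgeIdxLib in
/-- Twists by a bundle from the base have no first cohomology in high degree, if the contracted connected curves have none. -/
theorem exists_vanishing_contracted (hC : topologicalKrullDim C ≤ 1) [P.Over (Spec (CommRingCat.of k))]
    [IsProper (P ↘ Spec (CommRingCat.of k))] (π : C ⟶ P)
    (hπ : π ≫ (P ↘ Spec (CommRingCat.of k)) = C ↘ Spec (CommRingCat.of k)) {A : P.Modules} (hA : PicF.IsInvertible A)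
    (hAa : CohB1.IsAmple A)
    (hcontr : ∀ J : C.IdealSheafData, IsReduced J.subscheme → ConnectedSpace J.subscheme →
      topologicalKrullDim J.subscheme = 1 →
      (∀ x y : J.subscheme, (J.subschemeι ≫ π).base x = (J.subschemeι ≫ π).base y) →
      @Curv2.genus k _ J.subscheme ⟨J.subschemeι ≫ (C ↘ (Spec (CommRingCat.of k)))⟩ = 0) :
    ∃ n₀ : ℕ, ∀ n, n₀ ≤ n → Subsingleton (Coh.HH C (pb π (CohB1.tensorPow A n)) 1) := by
  haveI := CurvLib.isNoetherian k (X := C)
  haveI := CurvLib.isNoetherian k (X := P)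
  haveI : IsProper π := by
    haveI : IsProper (π ≫ (P ↘ Spec (CommRingCat.of k))) := by rw [hπ]; infer_instance
    exact IsProper.of_comp π (P ↘ Spec (CommRingCat.of k))
  let con : Set C → Prop := fun Z => ∀ x ∈ Z, ∀ y ∈ Z, π x = π y
  have hfin := NoetherianSpace.finite_irreducibleComponents (α := C)
  have hYc : IsClosed (⋃₀ {Z ∈ irreducibleComponents C | con Z}) := by
    rw [Set.sUnion_eq_biUnion]
    exact (hfin.subset fun Z hZ => hZ.1).isClosed_biUnion fun Z hZ => isClosed_of_mem_irreducibleComponents Z hZ.1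
  have hY'c : IsClosed (⋃₀ {Z ∈ irreducibleComponents C | ¬ con Z}) := by
    rw [Set.sUnion_eq_biUnion]
    exact (hfin.subset fun Z hZ => hZ.1).isClosed_biUnion fun Z hZ => isClosed_of_mem_irreducibleComponents Z hZ.1
  let Yc : Closeds C := ⟨_, hYc⟩
  set IY := Scheme.IdealSheafData.vanishingIdeal Yc
  let L := pb π A
  have hL : PicF.IsInvertible L := AmpleDevLib.isInvertible_pb π hA
  -- the ideal of the contracted part lives on the finite part
  have hIc : Coh.IsCoh (ClSub.idealMod IY) := SurfExtLib.isCoh_idealMod IY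
  haveI : Coh.IsQCoh (ClSub.idealMod IY) := hIc.1
  have hsupp : CohB1.support (ClSub.idealMod IY) ⊆ ⋃₀ {Z ∈ irreducibleComponents C | ¬ con Z} := fun x hx => by
    by_contra hxY'
    let V : C.Opens := ⟨(⋃₀ {Z ∈ irreducibleComponents C | ¬ con Z})ᶜ, hY'c.isOpen_compl⟩
    have hcomap : IY.comap V.ι = ⊥ := by
      rw [← le_bot_iff]
      refine le_trans (Scheme.IdealSheafData.le_support_iff_le_vanishingIdeal.1 (le_refl (IY.comap V.ι).support)) ?_
      rw [show (IY.comap V.ι).support = ⊤ from ?_, Scheme.IdealSheafData.vanishingIdeal_top,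
        Scheme.nilradical_eq_bot]
      refine top_le_iff.1 fun v _ => ?_
      rw [Scheme.IdealSheafData.support_comap]
      show V.ι v ∈ (IY.support : Set C)
      rw [Scheme.IdealSheafData.coe_support_vanishingIdeal]
      have hv : V.ι v ∈ ⋃₀ irreducibleComponents C := by rw [sUnion_irreducibleComponents]; trivial
      obtain ⟨Z, hZ, hvZ⟩ := hv
      by_cases hc : con Z
      · exact ⟨Z, ⟨hZ, hc⟩, hvZ⟩
      · exact absurd (Set.mem_sUnion.2 ⟨Z, ⟨hZ, hc⟩, hvZ⟩ : V.ι v ∈ ⋃₀ {Z ∈ irreducibleComponents C | ¬ con Z}) v.2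
    have hz := BlowRegLib.isZero_idealMod_restrict IY V hcomap
    exact hx (AVVanishLib.subsingleton_stalk_of_isZero_restrict _ hz hxY')
  have hk := DevissLib.killed_annIdeal (ClSub.idealMod IY) hIc.2
  set I := DevissLib.annIdeal (ClSub.idealMod IY) hIc.2
  rw [← I.ker_subschemeι] at hk
  obtain ⟨G, hG, ⟨eG⟩⟩ := DevissLib.exists_coh_of_killed I.subschemeι hIc hk
  haveI : LocallyQuasiFinite (I.subschemeι ≫ π) := by
    refine LocallyQuasiFinite.of_finite_preimage_singleton _ fun t => ?_
    have hcov : (I.subschemeι ≫ π) ⁻¹' {t} ⊆ I.subschemeι ⁻¹' (⋃ Z ∈ {Z ∈ irreducibleComponents C | ¬ con Z}, (Z ∩ π ⁻¹' {t})) := by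
      intro z hz
      have hzs : I.subschemeι z ∈ CohB1.support (ClSub.idealMod IY) := by
        rw [← DevissLib.support_annIdeal (ClSub.idealMod IY) hIc.2, ← I.range_subschemeι]
        exact ⟨z, rfl⟩
      obtain ⟨Z, hZ, hzZ⟩ := hsupp hzs
      exact Set.mem_biUnion hZ ⟨hzZ, hz⟩
    refine ((Set.Finite.biUnion (hfin.subset fun Z hZ => hZ.1) fun Z hZ => ?_).preimage
      I.subschemeι.isEmbedding.injective.injOn).subset hcov
    exact finite_inter_fibre k hC π (isClosed_of_mem_irreducibleComponents Z hZ.1) hZ.1.1 hZ.2 π.isClosedMap t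
  haveI : IsFinite (I.subschemeι ≫ π) := IsFinite.of_isProper_of_locallyQuasiFinite _
  have hAI : CohB1.IsAmple (pb I.subschemeι L) :=
    AmpleDevLib.isAmple_of_iso (AmpleDevLib.isInvertible_pb _ hA) (AmpleDevLib.isInvertible_pb _ hL)
      ((Scheme.Modules.pullbackComp I.subschemeι π).app A).symm (AmpleDevLib.isAmple_pb (I.subschemeι ≫ π) hA hAa)
  obtain ⟨n₀, hn₀⟩ := AmpleDevLib.evVanish_of_iso eG.symm
    (AmpleDevLib.evVanish_push I.subschemeι (I.subschemeι ≫ (C ↘ Spec (CommRingCat.of k))) hL hAI G hG)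
  refine ⟨n₀, fun n hn => ?_⟩
  obtain ⟨φ, -⟩ := AmpleDevLib.exists_pullPowIso π hA n
  have hLn : PicF.IsInvertible (CohB1.tensorPow L n) := AmpleThLib.tensorPow_isInvertible hL n
  let T := (CurvLib.idealSeq IY).map (CurvLib.tensorLeft' (CohB1.tensorPow L n))
  have hT : T.ShortExact := HilbPolyLib.shortExact_tensor hLn (CurvLib.idealSeq_shortExact IY)
  have h₁ : Subsingleton (Coh.HH C T.X₁ 1) := hn₀ n hn 1 Nat.one_pos
  -- the contracted part
  have h₃ : Subsingleton (Coh.HH C T.X₃ 1) := by
    obtain ⟨q⟩ := SurfAmpleLib.nonempty_quot_push k (CohB1.tensorPow L n) hLn IY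
    haveI : Coh.IsQCoh (pb IY.subschemeι (CohB1.tensorPow L n)) :=
      (CurvLib.isCoh_of_isInvertible (AmpleDevLib.isInvertible_pb _ hLn)).1
    obtain ⟨E⟩ := QCohLib.nonempty_HH_push IY.subschemeι (pb IY.subschemeι (CohB1.tensorPow L n)) 1
    suffices hY : Subsingleton (Coh.HH IY.subscheme (pb IY.subschemeι (CohB1.tensorPow L n)) 1) by
      have h2 := E.symm.injective.subsingleton
      exact (CurvLib.hIso (k := k) q 1).symm.toEquiv.subsingleton
    haveI : NoetherianSpace IY.subscheme := IY.subschemeι.isEmbedding.isInducing.noetherianSpace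
    haveI : IsReduced IY.subscheme := DevissLib.isReduced_vanishingIdeal' Yc
    refine subsingleton_HH_of_components _ 0 fun c => ?_
    exact subsingleton_h1_component k hC π hπ hA hcontr Yc (fun x ⟨Z, hZ, hxZ⟩ => ⟨Z, hZ.1, hxZ, fun y hy => ⟨Z, hZ, hy⟩, hZ.2⟩) c n
  have e₂ : T.X₂ ≅ pb π (CohB1.tensorPow A n) := swapIso _ _ ≪≫ unitLeft _ ≪≫ φ.symm
  haveI := (CurvLib.hIso (k := k) e₂ 1).symm.toEquiv
  have h₂ : Subsingleton (Coh.HH C T.X₂ 1) := subsingleton_mid k hT h₁ h₃
  exact (CurvLib.hIso (k := k) e₂ 1).symm.toEquiv.subsingleton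

end EllSecLib

end
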