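import Groth.Agent.CIGenLib.Hyp
import Groth.Agent.PlaneCurveLib.Coh
import Groth.Agent.ProjClosedLib.Sections
import Groth.Agent.ProjSecLib.Gamma
import Groth.Agent.JacAlbLib.Twist
import Groth.Agent.ProjPtsLib.Basic
import Groth.Agent.ChernOpLib.Tensor
import Groth.Agent.PicPnLib.Twist
import Groth.Agent.FlatThickLib.Main
import Groth.Agent.AmpleDevLib.Pull

/-!
# Restricting forms to a subscheme of projective space
-/

set_option autoImplicit false
set_option linter.style.haveILetI false
set_option backward.isDefEq.respectTransparency false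
set_option backward.isDefEq.respectTransparency.types false
set_option maxHeartbeats 1000000

universe u

open CategoryTheory CategoryTheory.Limits AlgebraicGeometry TopologicalSpace Opposite MvPolynomial
open KFlatLib (pb puSec)
open GradedCechLib (deh)

noncomputable section

namespace EllSecLib

variable {k : Type u} [Field k] {n : ℕ} {C : Scheme.{u}} [C.Over (Spec (CommRingCat.of k))]

/-- A form whose restriction vanishes cuts out a hypersurface containing the image. -/
theorem hypIdeal_le_ker (i : C ⟶ CohB1.ProjSpace n k) [QuasiCompact i] {d : ℕ} (G : LefPen.Form n k d)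
    (h : puSec i (show Γ(Twist.twistProjSpace n k (d : ℤ), ⊤) from Twist.globalOf (CohB1.polyGrading n k) ⟨G.1, G.2⟩) = 0) :
    LefPen.hypIdeal G ≤ i.ker := by
  classical
  let s : Finset (MvPolynomial (Fin (n + 1)) k) := Finset.univ.image X
  have hs1 : ∀ g ∈ s, g ∈ CohB1.polyGrading n k 1 := fun g hg => by
    obtain ⟨j, -, rfl⟩ := Finset.mem_image.1 hg
    exact GradedCechLib.X_mem n k j
  have hspan : (HomogeneousIdeal.irrelevant (CohB1.polyGrading n k)).toIdeal ≤
      Ideal.span (s : Set (MvPolynomial (Fin (n + 1)) k)) := by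
    exact FlatThickLib.irrelevant_le_span_X n k
  have hV := (ProjClosedLib.van_iff_puSec (CohB1.polyGrading n k) s hs1 hspan i G.2).2 h
  refine Scheme.IdealSheafData.le_of_iSup_eq_top (fun j => ⟨LefPen.chart n k j, CIGen.chart_affine j⟩)
    (QCohLib.iSup_stdOpen n k) fun j => ?_
  rw [CIGen.hypIdeal_chart, Scheme.Hom.ker_apply]
  refine (Ideal.span_singleton_le_iff_mem _).mpr (RingHom.mem_ker.mpr ?_)
  rw [← PlaneCurveLib.fr_eq_deh G j]
  exact hV _ (Finset.mem_image.2 ⟨j, Finset.mem_univ j, rfl⟩)

/-- Restriction of forms, as a linear map to the sections of the twist. -/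
theorem exists_evalMap (i : C ⟶ CohB1.ProjSpace n k) (hi : i ≫ CohB1.ProjSpace.toSpec n k = C ↘ Spec (CommRingCat.of k))
    (d : ℕ) : ∃ Φ : LefPen.Form n k d →ₗ[k] Coh.HH C (pb i (Twist.twistProjSpace n k (d : ℤ))) 0,
      ∀ G : LefPen.Form n k d, Φ G = 0 → puSec i (show Γ(Twist.twistProjSpace n k (d : ℤ), ⊤) from
        Twist.globalOf (CohB1.polyGrading n k) ⟨G.1, G.2⟩) = 0 := by
  let O' := Twist.twistProjSpace n k (d : ℤ)
  let f : LefPen.Form n k d → Γ(pb i O', ⊤) := fun G =>
    puSec i (show Γ(O', ⊤) from Twist.globalOf (CohB1.polyGrading n k) G)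
  have hadd : ∀ a b, f (a + b) = f a + f b := fun a b => by
    show puSec i (show Γ(O', ⊤) from Twist.globalOf (CohB1.polyGrading n k) (a + b)) = _
    have e : (show Γ(O', ⊤) from Twist.globalOf (CohB1.polyGrading n k) (a + b)) =
        (show Γ(O', ⊤) from Twist.globalOf (CohB1.polyGrading n k) a) +
          (show Γ(O', ⊤) from Twist.globalOf (CohB1.polyGrading n k) b) := by
      refine TwistLib.sec_ext fun x => ?_
      exact (Localization.add_mk_self (a : MvPolynomial (Fin (n + 1)) k) _ (b : MvPolynomial (Fin (n + 1)) k)).symm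
    rw [e]
    exact map_add (((Scheme.Modules.pullbackPushforwardAdjunction i).unit.app O').app ⊤).hom _ _
  have hsmul : ∀ (r : k) a, f (r • a) = (show Γ(C, ⊤) from Coh.toGlobal (C ↘ Spec (CommRingCat.of k)) r) • f a := fun r a => by
    show puSec i (show Γ(O', ⊤) from Twist.globalOf (CohB1.polyGrading n k) (r • a)) = _
    rw [ProjSecLib.globalOf_smul]
    refine (KFlatLib.puSec_smul (M := O') i _ _).trans ?_
    refine congrArg (fun c : Γ(C, ⊤) => c • f a) ?_
    rw [← hi]
    rfl
  refine ⟨{ toFun := fun G => (DegPullLib.e0 (pb i O')).symm (f G)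
            map_add' := fun a b => by rw [hadd, map_add]
            map_smul' := fun r a => ?_ }, fun G hG => ?_⟩
  · apply (DegPullLib.e0 (pb i O')).injective
    rw [AddEquiv.apply_symm_apply, hsmul]
    refine Eq.trans ?_ (DegPullLib.e0_smul (pb i O') _ _).symm
    rw [AddEquiv.apply_symm_apply]
    rfl
  · have := congrArg (DegPullLib.e0 (pb i O')) hG
    rw [map_zero] at this
    exact (AddEquiv.apply_symm_apply _ _).symm.trans this

/-- The dimension of the space of forms. -/
theorem finrank_form (d : ℕ) : Module.finrank k (LefPen.Form n k d) = (n + d).choose d := by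
  refine (Groth.Agent.ProjPtsLib.finrank_homogeneous (k := k) (r := n + 1) d).trans ?_
  congr 1
  omega

instance finite_form (d : ℕ) : Module.Finite k (LefPen.Form n k d) :=
  Module.Finite.iff_fg.mpr (MvPolynomial.homogeneousSubmodule_fg (Fin (n + 1)) k d)

/-- The homogeneous part of a multiple of a linear form. -/
theorem homogeneousComponent_mul_right (a l : MvPolynomial (Fin (n + 1)) k) (hl : l.IsHomogeneous 1) :
    homogeneousComponent 2 (a * l) = homogeneousComponent 1 a * l := by
  conv_lhs => rw [← sum_homogeneousComponent a, Finset.sum_mul, map_sum]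
  rw [Finset.sum_eq_single 1]
  · exact (homogeneousComponent_of_mem ((homogeneousComponent_isHomogeneous 1 a).mul hl)).trans (if_pos rfl)
  · intro j _ hj
    exact (homogeneousComponent_of_mem ((homogeneousComponent_isHomogeneous j a).mul hl)).trans (if_neg (by omega))
  · intro h
    rw [homogeneousComponent_eq_zero 1 a (by simpa using h), zero_mul, map_zero]

/-- Degree of the pullback of `O(2)`. -/
theorem deg_pb_two [IsProper (C ↘ Spec (CommRingCat.of k))] [Smooth (C ↘ Spec (CommRingCat.of k))]
    [GeometricallyConnected (C ↘ Spec (CommRingCat.of k))] (hdim : topologicalKrullDim C = 1)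
    (i : C ⟶ CohB1.ProjSpace n k) :
    Curv2.deg k C (pb i (Twist.twistProjSpace n k ((2 : ℕ) : ℤ))) 1 =
      2 * Curv2.deg k C (pb i (Twist.twistProjSpace n k 1)) 1 := by
  obtain ⟨e⟩ := PicPnLib.twist_add n k 1 1
  obtain ⟨e'⟩ := ChernOpLib.nonempty_pb_tensor i (Twist.twistProjSpace n k 1) (Twist.twistProjSpace n k 1)
  let E : CohB1.tensorMod (pb i (Twist.twistProjSpace n k 1)) (pb i (Twist.twistProjSpace n k 1)) ≅
      pb i (Twist.twistProjSpace n k ((2 : ℕ) : ℤ)) :=
    e' ≪≫ (Scheme.Modules.pullback i).mapIso (e ≪≫ eqToIso (congrArg _ (by norm_num)))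
  haveI := FibVALib.geometricallyIntegral_of_geometricallyConnected (C ↘ Spec (CommRingCat.of k))
  haveI : IsIntegral C := GeometricallyIntegral.isIntegral_of_subsingleton (C ↘ Spec (CommRingCat.of k))
  have hL := AmpleDevLib.isInvertible_pb i (PicPnLib.twist_inv n k 1)
  rw [← CurvLib.deg_congr E 1, GenusZeroLib.deg_tensor k hdim hL hL]
  ring

end EllSecLib

end
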