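import Groth.Agent.EllSecLib.Ruled
import Groth.Agent.VBP1Lib.Twist
import Groth.Agent.BlowRegLib.PosA
import Groth.Agent.BlowRegLib.LinearGG
import Groth.Agent.GrModLib6.Rel
import Groth.Agent.RRVanLib.GG
import Groth.Agent.BlowRegLib.AmpleCurves
import Groth.Agent.PnHNLib.Main

/-!
# Global generation by extension, and curves of degree one over the line
-/

set_option autoImplicit false
set_option linter.style.haveILetI false
set_option backward.isDefEq.respectTransparency false
set_option backward.isDefEq.respectTransparency.types false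
set_option maxHeartbeats 1000000

universe u

open CategoryTheory CategoryTheory.Limits AlgebraicGeometry TopologicalSpace
open HilbPolyLib DevissLib IntMultLib IntFunLib HodgeIdxLib
open KFlatLib (pb)

noncomputable section

namespace EllSecLib

variable {k : Type u} [Field k] {X : Scheme.{u}} [X.Over (Spec (CommRingCat.of k))]

/-- An extension of globally generated modules is globally generated when the first cohomology of the kernel vanishes. -/
theorem gg_extension (k : Type u) [Field k] [X.Over (Spec (CommRingCat.of k))] {S : ShortComplex X.Modules} (hS : S.ShortExact) (h₁ : Curv2.IsGloballyGenerated S.X₁)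
    (h₃ : Curv2.IsGloballyGenerated S.X₃) (hH : Subsingleton (Coh.HH X S.X₁ 1)) :
    Curv2.IsGloballyGenerated S.X₂ := by
  refine MiscFlat6.isGloballyGenerated_of_cancel _ fun M q hq => ?_
  have h1 : S.f ≫ q = 0 := MiscFlat6.cancel_of_isGloballyGenerated h₁ _ fun u => hq (S.f.app ⊤ u)
  haveI := hS.epi_g
  let q' : S.X₃ ⟶ M := hS.gIsCokernel.desc (CokernelCofork.ofπ q h1)
  have hq' : S.g ≫ q' = q := Cofork.IsColimit.π_desc hS.gIsCokernel
  have h2 : q' = 0 := by
    refine MiscFlat6.cancel_of_isGloballyGenerated h₃ _ fun v => ?_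
    haveI : Subsingleton (Coh.HH X S.X₁ (0 + 1)) := hH
    have hker : LinearMap.ker (CurvLib.hDel (k := k) hS 0) = ⊤ := eq_top_iff.mpr fun y _ => Subsingleton.elim _ _
    have hr : LinearMap.range (CurvLib.hMap (k := k) S.g 0) = ⊤ := (CurvLib.exact₃ (k := k) hS 0).trans hker
    obtain ⟨z, hz⟩ := LinearMap.range_eq_top.mp hr ((DegPullLib.e0 S.X₃).symm v)
    have hv : S.g.app ⊤ (DegPullLib.e0 S.X₂ z) = v :=
      ((RRVanLib.e0_map S.g z).symm.trans (congrArg _ hz)).trans (AddEquiv.apply_symm_apply _ _)
    rw [← hv]
    refine Eq.trans ?_ (hq (DegPullLib.e0 S.X₂ z))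
    rw [← hq']
    rfl
  rw [← hq', h2, comp_zero]

variable [IsProper (X ↘ Spec (CommRingCat.of k))] [IsAlgClosed k]

/-- A curve mapping with degree one to the line is rational. -/
theorem h1_eq_zero_of_deg_one [IsIntegral X] (hd : topologicalKrullDim X = 1) {P : Scheme.{u}}
    [P.Over (Spec (CommRingCat.of k))] [IsProper (P ↘ Spec (CommRingCat.of k))] [IsIntegral P]
    (hdimP : topologicalKrullDim P = 1) (g : X ⟶ P)
    (hg : g ≫ (P ↘ Spec (CommRingCat.of k)) = X ↘ Spec (CommRingCat.of k))
    {T : P.Modules} (hTA : CohB1.IsAmple T) (hdeg : Curv2.deg k X (pb g T) 1 = 1) (hP : Curv2.deg k P T 1 = 1)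
    (hP0 : hh k (Coh.structureModule P) 0 = 1) (hP1 : hh k (Coh.structureModule P) 1 = 0) :
    hh k (Coh.structureModule X) 1 = 0 := by
  have hT : PicF.IsInvertible T := hTA.1
  haveI := CurvLib.isNoetherian k (X := X)
  haveI := CurvLib.isNoetherian k (X := P)
  haveI : IsProper (g ≫ (P ↘ Spec (CommRingCat.of k))) := by rw [hg]; infer_instance
  haveI : IsProper g := IsProper.of_comp g (P ↘ Spec (CommRingCat.of k))
  have hsuppP : topologicalKrullDim (CohB1.support (Coh.structureModule P)) ≤ (([T].length : ℕ) : WithBot ℕ∞) :=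
    (topologicalKrullDim_subspace_le _ _).trans (by rw [hdimP]; simp)
  have hO := DevissLib.isCoh_structureModule P
  -- surjectivity
  have hcl : IsClosed (Set.range g) := g.isClosedMap.isClosed_range
  have hdom : g (genericPoint X) = genericPoint P := by
    by_contra hne
    have hpt : ∀ x : X, g x = g (genericPoint X) := fun x => by
      have h1 : g (genericPoint X) ⤳ g x := ((genericPoint_spec X).specializes trivial).map g.continuous
      obtain ⟨-, hcl'⟩ := SerreVanLib.proper_closed_finite k hdimP (isClosed_closure (s := ({g (genericPoint X)} : Set P)))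
        fun h => hne ((genericPoint_spec P).eq (show closure ({g (genericPoint X)} : Set P) = Set.univ from h)).symm
      have h2 := specializes_iff_mem_closure.1 h1
      rw [(hcl' _ (subset_closure rfl)).closure_eq] at h2
      exact h2
    obtain ⟨U, e, hU, he⟩ := TwistLib.exists_genOn hT (g (genericPoint X))
    have htop : (⊤ : X.Opens) ≤ g ⁻¹ᵁ U := fun x _ => by
      show g x ∈ U
      rw [hpt x]; exact hU
    let τ : Γ(pb g T, ⊤) := KFlatLib.puSecLE g T htop e
    haveI := AmpleLib.isIso_unitHom (M := pb g T) τ (CubeLib.genOn_puSecLE g he htop)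
    rw [Curv2.deg, CurvLib.euler_congr (asIso (QCohLib.unitHom (pb g T) τ)).symm] at hdeg
    omega
  haveI : IsDominant g := ⟨by
    intro y
    have h : y ∈ closure ({genericPoint P} : Set P) :=
      specializes_iff_mem_closure.1 ((genericPoint_spec P).specializes trivial)
    exact closure_mono (Set.singleton_subset_iff.2 (⟨genericPoint X, hdom⟩ : genericPoint P ∈ Set.range g.base) : ({genericPoint P} : Set P) ⊆ Set.range g.base) h⟩
  haveI : IsSchemeTheoreticallyDominant g := IsSchemeTheoreticallyDominant.of_isDominant g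
  haveI : Mono (ClSub.unitToPush g) := GrModLib6.mono_of_app_injective _ fun V => g.app_injective V
  haveI : IsFinite g := BlowRegLib.isFinite_of_nonconstant k hd g fun y => by
    by_contra hall
    push Not at hall
    have hr : Set.range g = {genericPoint P} := Set.Subset.antisymm
      (by rintro _ ⟨x, rfl⟩; exact (hall x).trans ((hall _).symm.trans hdom))
      (Set.singleton_subset_iff.2 ⟨_, hdom⟩)
    exact GenusZeroLib.ne_genericPoint_of_isClosed hdimP (hr ▸ hcl) rfl
  haveI : Coh.IsQCoh (Coh.structureModule X) := QCohLib.isQCoh_unit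
  let φ := ClSub.unitToPush g
  let F := (Coh.push g).obj (Coh.structureModule X)
  have hF : Coh.IsCoh F := QCohLib.isCoh_push_finite g _ (DevissLib.isCoh_structureModule X)
  let S : ShortComplex P.Modules := ShortComplex.mk φ (cokernel.π φ) (cokernel.condition φ)
  have hS : S.ShortExact :=
    { exact := ShortComplex.exact_of_g_is_cokernel _ (cokernelIsCokernel φ)
      mono_f := inferInstanceAs (Mono φ)
      epi_g := inferInstanceAs (Epi (cokernel.π φ)) }
  have hC : Coh.IsCoh (cokernel φ) := QCohLib.isCoh_cokernel φ hO.1 hF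
  have hχF : Curv2.euler k P F = Curv2.euler k X (Coh.structureModule X) :=
    ((PushLinLib.euler_push k g hg (Coh.structureModule X)).2).symm
  have hNF : N k [T] F = 1 := by
    have h2 := N_push (k := k) (g := g) hg (l := [T]) (by simpa using hT) (DevissLib.isCoh_structureModule X)
      ((topologicalKrullDim_subspace_le _ _).trans (by rw [hd]; simp))
    change N k [pb g T] (Coh.structureModule X) = N k [T] F at h2
    rw [← h2, ← euler_sub_eq_N]
    rw [Curv2.deg] at hdeg
    omega
  have hNO : N k [T] (Coh.structureModule P) = 1 := by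
    rw [← euler_sub_eq_N]
    rw [Curv2.deg] at hP
    omega
  have hadd := N_add (k := k) (l := [T]) (by simpa using hT) hS hO hF hC
  change N k [T] F = N k [T] (Coh.structureModule P) + N k [T] (cokernel φ) at hadd
  have hsd : topologicalKrullDim (CohB1.support (cokernel φ)) ≤ (([T].length : ℕ) : WithBot ℕ∞) :=
    (topologicalKrullDim_subspace_le _ _).trans (by rw [hdimP]; simp)
  have hη : genericPoint P ∉ CohB1.support (cokernel φ) := by
    intro hmem
    have hclη : topologicalKrullDim (closure ({genericPoint P} : Set P)) = ((1 : ℕ) : WithBot ℕ∞) := by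
      rw [← VarDimLib.dim_eq_closure_generic P, hdimP, Nat.cast_one]
    have hpos := IntFunLib.N_pos (k := k) (l := [T]) (by simpa using hT) hC hsd hmem (by simpa using hclη)
      fun c _ hc => N_ample_pos (k := k) (d := 1) hTA (by simpa using hc)
    rw [hNF, hNO] at hadd
    omega
  have hd0 : topologicalKrullDim (CohB1.support (cokernel φ)) ≤ (0 : ℕ) := by
    exact_mod_cast CurvLib.topologicalKrullDim_le_zero_of_lt hdimP (QCohLib.isClosed_support (cokernel φ) hC.2)
      fun h => hη (h.ge trivial)
  have hC0 : ∀ n, 0 < n → Subsingleton (Coh.HH P (cokernel φ) n) := fun n hn =>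
    CurvLib.subsingleton_HH_of_support_dim _ hC.2 (d := 0) hd0 n hn
  have hχ : Curv2.euler k P F = Curv2.euler k P (Coh.structureModule P) + Curv2.euler k P (cokernel φ) :=
    CurvLib.euler_add_of_isCoh (k := k) (S := S) hS hO hF hC
  haveI : Coh.IsQCoh (Coh.structureModule X) := QCohLib.isQCoh_unit
  haveI : Coh.IsQCoh (Coh.structureModule P) := QCohLib.isQCoh_unit
  rw [hχF, CurvLib.euler_eq_sub fun n hn => CurvLib.subsingleton_HH_of_dim_le _ (d := 1) hd.le n (by omega),
    CurvLib.euler_eq_sub fun n hn => CurvLib.subsingleton_HH_of_dim_le _ (d := 1) hdimP.le n (by omega),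
    CurvLib.euler_eq_h0 (k := k) hC (by exact_mod_cast hd0)] at hχ
  have h0 : hh k (Coh.structureModule X) 0 = 1 := SurfNumLib.h0_structure k
  unfold hh at h0 hP0 hP1 ⊢
  omega

end EllSecLib
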