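import Groth.Agent.QuadKerLib.Kernel
import Groth.Agent.LiftHomLib.Main
import Groth.Agent.ParGPLib.Basic
import Groth.Agent.RRVanLib.GG

/-!
# Matrices of linear forms on the quadric surjective on sections
-/

set_option autoImplicit false
set_option linter.style.haveILetI false
set_option backward.isDefEq.respectTransparency false
set_option backward.isDefEq.respectTransparency.types false
set_option maxHeartbeats 1000000

universe u

open CategoryTheory CategoryTheory.Limits AlgebraicGeometry TopologicalSpace Opposite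
open HilbPolyLib QuadKerLib

noncomputable section

namespace EllSecLib

/-- Naturality of the symmetry. -/
theorem map_swap {Y : Scheme.{u}} {A B : Y.Modules} (f : A ⟶ B) (M : Y.Modules) :
    ((DCoh.tensorBi (X := Y)).obj M).map f ≫ (swapIso M B).hom =
      (swapIso M A).hom ≫ ((DCoh.tensorBi (X := Y)).map f).app M := by
  show DCoh.shP.map _ ≫ DCoh.shP.map _ = DCoh.shP.map _ ≫ DCoh.shP.map _
  rw [← Functor.map_comp, ← Functor.map_comp]
  congr 1
  exact BraidedCategory.braiding_naturality_right _ _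

/-- A map out of the structure sheaf is determined by the image of one. -/
theorem hom_eq_zero_of_one {Y : Scheme.{u}} {M : Y.Modules} (φ : Coh.structureModule Y ⟶ M)
    (h : φ.app ⊤ (1 : Γ(Y, ⊤)) = 0) : φ = 0 := by
  refine Scheme.Modules.hom_ext _ _ fun V => ConcreteCategory.hom_ext _ _ fun r => ?_
  have e : (QCohLib.unitHom (Coh.structureModule Y) (1 : Γ(Y, ⊤))).app V r = r := by
    show (show Γ(Y, V) from r) * Y.presheaf.map (homOfLE (le_top : V ≤ ⊤)).op (1 : Γ(Y, ⊤)) = (show Γ(Y, V) from r)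
    rw [map_one, mul_one]
  have h1 := congrArg (fun ψ => Scheme.Modules.Hom.app ψ V r) (QCohLib.app_unitHom_app φ (1 : Γ(Y, ⊤)))
  refine ((congrArg (φ.app V) e).symm.trans h1).trans ?_
  show (QCohLib.unitHom M (φ.app ⊤ (1 : Γ(Y, ⊤)))).app V r = 0
  rw [QCohLib.unitHom_app, h, map_zero, smul_zero]

variable {k : Type u} [Field k]

attribute [local instance] QuadKerLib.overX

/-- Two maps out of the structure sheaf generating a line bundle also after a twist. -/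
structure GenPair (k : Type u) [Field k] {Y : Scheme.{u}} [Y.Over (Spec (CommRingCat.of k))] (L K : Y.Modules) where
  map : Fin 2 → (Coh.structureModule Y ⟶ L)
  span : ∀ M : Y.Modules, FlatMod.IsFinLocFree M → Subsingleton (Coh.HH Y (CohB1.tensorMod M K) 1) →
    ∀ y : Coh.HH Y (CohB1.tensorMod M L) 0, ∃ c : Fin 2 → Coh.HH Y (CohB1.tensorMod M (Coh.structureModule Y)) 0,
      y = ∑ i, CurvLib.hMap (k := k) (((DCoh.tensorBi (X := Y)).obj M).map (map i)) 0 (c i)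
  joint : ∀ M : Y.Modules, FlatMod.IsFinLocFree M → ∀ {N : Y.Modules} (g : CohB1.tensorMod M L ⟶ N),
    (∀ i, ((DCoh.tensorBi (X := Y)).obj M).map (map i) ≫ g = 0) → g = 0

theorem hMap_sum {Y : Scheme.{u}} [Y.Over (Spec (CommRingCat.of k))] {M N : Y.Modules} {ι : Type*} [Fintype ι]
    (φ : ι → (M ⟶ N)) (x : Coh.HH Y M 0) :
    CurvLib.hMap (k := k) (∑ i, φ i) 0 x = ∑ i, CurvLib.hMap (k := k) (φ i) 0 x := by
  classical
  let ev : (M ⟶ N) →+ Coh.HH Y N 0 :=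
    { toFun := fun f => CurvLib.hMap (k := k) f 0 x
      map_zero' := by
        show CurvLib.hMap (k := k) (0 : M ⟶ N) 0 x = 0
        rw [← sub_self (0 : M ⟶ N), ParGPLib.hMap_sub, sub_self]
      map_add' := fun f g => by
        show CurvLib.hMap (k := k) (f + g) 0 x = _
        rw [ParGPLib.hMap_add] }
  exact map_sum ev φ Finset.univ

theorem nonempty_genPair (a b : ℤ) (hab : (a = 1 ∧ b = 0) ∨ (a = 0 ∧ b = 1)) :
    Nonempty (GenPair k (bi k a b) (bi k (-a) (-b))) := by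
  obtain ⟨e00⟩ := nonempty_bi_zero k
  obtain ⟨T, hT, ⟨t₁⟩, ⟨t₂⟩, ⟨t₃⟩⟩ : ∃ T : ShortComplex (X k).Modules, T.ShortExact ∧ Nonempty (T.X₁ ≅ bi k (-a) (-b)) ∧
      Nonempty (T.X₂ ≅ ⨁ fun _ : Fin 2 => Coh.structureModule (X k)) ∧ Nonempty (T.X₃ ≅ bi k a b) := by
    rcases hab with ⟨rfl, rfl⟩ | ⟨rfl, rfl⟩
    · obtain ⟨T, hT, ⟨t₁⟩, ⟨t₂⟩, ht₃⟩ := (exists_step k 1 0).1
      exact ⟨T, hT, ⟨t₁ ≪≫ eqToIso (by norm_num)⟩,
        ⟨t₂ ≪≫ biproduct.mapIso fun _ => eqToIso (by norm_num) ≪≫ e00⟩, ht₃⟩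
    · obtain ⟨T, hT, ⟨t₁⟩, ⟨t₂⟩, ht₃⟩ := (exists_step k 0 1).2
      exact ⟨T, hT, ⟨t₁ ≪≫ eqToIso (by norm_num)⟩,
        ⟨t₂ ≪≫ biproduct.mapIso fun _ => eqToIso (by norm_num) ≪≫ e00⟩, ht₃⟩
  let p : T.X₂ ⟶ bi k a b := T.g ≫ t₃.hom
  haveI : Epi p := by
    haveI := hT.epi_g
    exact epi_comp _ _
  let σ : Fin 2 → (Coh.structureModule (X k) ⟶ bi k a b) := fun i =>
    biproduct.ι (fun _ : Fin 2 => Coh.structureModule (X k)) i ≫ t₂.inv ≫ p
  have htot : ∀ M : (X k).Modules, ((DCoh.tensorBi (X := X k)).obj M).map p =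
      ∑ i, ((DCoh.tensorBi (X := X k)).obj M).map (t₂.hom ≫ biproduct.π _ i) ≫
        ((DCoh.tensorBi (X := X k)).obj M).map (σ i) := fun M => by
    simp only [← Functor.map_comp]
    rw [← Functor.map_sum]
    refine congrArg _ ?_
    simp only [σ, Category.assoc]
    rw [← Preadditive.comp_sum]
    simp only [← Category.assoc (biproduct.π _ _)]
    rw [← Preadditive.sum_comp, biproduct.total, Category.id_comp, t₂.hom_inv_id_assoc]
  refine ⟨⟨σ, fun M hM hK y => ?_, fun M hM N g hg => ?_⟩⟩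
  · let F := (DCoh.tensorBi (X := X k)).obj M
    have hS := LiftHomLib.shortExact_tensor hM hT
    have h1 : Subsingleton (Coh.HH (X k) (T.map F).X₁ (0 + 1)) := HdgLefLib.sub_iso (congrRight M t₁).symm 1 hK
    obtain ⟨x, hx⟩ := HdgLefLib.surjective_g (k := k) hS h1 (CurvLib.hMap (k := k) (F.map t₃.inv) 0 y)
    refine ⟨fun i => CurvLib.hMap (k := k) (F.map (t₂.hom ≫ biproduct.π _ i)) 0 x, ?_⟩
    refine Eq.trans ?_ ((hMap_sum (k := k) (fun i => F.map (t₂.hom ≫ biproduct.π _ i) ≫ F.map (σ i)) x).trans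
      (Finset.sum_congr rfl fun i _ => CurvLib.hMap_comp _ _ _ _))
    rw [← htot M]
    show y = CurvLib.hMap (k := k) (F.map (T.g ≫ t₃.hom)) 0 x
    have e1 := congrArg (CurvLib.hMap (k := k) (F.map t₃.hom) 0) hx
    rw [← CurvLib.hMap_comp (k := k) (F.map t₃.inv) (F.map t₃.hom) 0 y, ← Functor.map_comp, t₃.inv_hom_id,
      CategoryTheory.Functor.map_id, ParGPLib.hMap_id_apply] at e1
    rw [Functor.map_comp]
    exact e1.symm.trans (CurvLib.hMap_comp _ _ _ _).symm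
  · have h0 : ((DCoh.tensorBi (X := X k)).obj M).map p ≫ g = 0 := by
      rw [htot, Preadditive.sum_comp]
      exact Finset.sum_eq_zero fun i _ => by rw [Category.assoc, hg i, comp_zero]
    haveI : Epi (((DCoh.tensorBi (X := X k)).obj M).map p) := inferInstance
    exact zero_of_epi_comp _ h0

/-- The linear algebra of the block matrix. -/
theorem eq_top_of_relations [CharZero k] {r : ℕ} (hr : 2 ≤ r) {H : Type u} [AddCommGroup H] [Module k H]
    (W : Submodule k H) (z : Fin 2 → Fin 2 → Fin r → H)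
    (hA : ∀ i (l : Fin r), z i 0 l + l.val • z i 1 l ∈ W)
    (hB : ∀ j (l : Fin r), z 0 j l + z 1 j (finRotate r l) ∈ W) : ∀ i j l, z i j l ∈ W := by
  have hmk : ∀ {x : H}, x ∈ W → W.mkQ x = 0 := fun h => (Submodule.Quotient.mk_eq_zero W).2 h
  let q := fun i j l => W.mkQ (z i j l)
  have eA : ∀ i (l : Fin r), q i 0 l = -((l.val : k) • q i 1 l) := fun i l => by
    have h := hmk (hA i l)
    rw [map_add, ← Nat.cast_smul_eq_nsmul k, map_smul] at h
    exact eq_neg_of_add_eq_zero_left h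
  have eB : ∀ j (l : Fin r), q 0 j l = -q 1 j (finRotate r l) := fun j l => by
    have h := hmk (hB j l)
    rw [map_add] at h
    exact eq_neg_of_add_eq_zero_left h
  have h11 : ∀ l : Fin r, q 1 1 l = 0 := fun l' => by
    obtain ⟨l, rfl⟩ := (finRotate r).surjective l'
    have hne : (finRotate r l).val ≠ l.val := fun h => by
      obtain ⟨m, rfl⟩ : ∃ m, r = m + 1 := ⟨r - 1, by omega⟩
      rw [coe_finRotate] at h
      split_ifs at h with hl
      · have : l.val = m := by rw [hl]; rfl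
        omega
      · omega
    have e1 := eB 0 l
    rw [eA 0 l, eA 1 (finRotate r l), eB 1 l, smul_neg, neg_neg, neg_neg] at e1
    have e2 : ((l.val : k) - ((finRotate r l).val : k)) • q 1 1 (finRotate r l) = 0 := by rw [sub_smul, e1, sub_self]
    exact (smul_eq_zero.1 e2).resolve_left (sub_ne_zero.2 fun h => hne (Nat.cast_injective h).symm)
  intro i j l
  refine (Submodule.Quotient.mk_eq_zero W).1 ?_
  show q i j l = 0
  have h01 : ∀ l, q 0 1 l = 0 := fun l => by rw [eB, h11, neg_zero]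
  fin_cases i <;> fin_cases j
  · show q 0 0 l = 0; rw [eA, h01, smul_zero, neg_zero]
  · exact h01 l
  · show q 1 0 l = 0; rw [eA, h11, smul_zero, neg_zero]
  · exact h11 l

/-- A sum of copies carried over an isomorphism. -/
abbrev sumIso {M N : (X k).Modules} (r : ℕ) (e : M ≅ N) : (∐ fun _ : Fin r => N) ≅ ⨁ fun _ : Fin r => M :=
  (biproduct.isoCoproduct _).symm ≪≫ biproduct.mapIso fun _ => e.symm

/-- The block matrix: abstract form. -/
theorem exists_matrix_aux [CharZero k] {Y : Scheme.{u}} [Y.Over (Spec (CommRingCat.of k))] {E A₁ A₂ T : Y.Modules}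
    (e : Coh.structureModule Y ≅ E) (A : Fin 2 → (E ⟶ A₁)) (B : Fin 2 → (E ⟶ A₂)) (uu : Fin 2 → (A₁ ⟶ T))
    (vv : Fin 2 → (A₂ ⟶ T)) (hcompat : ∀ i j, A i ≫ uu j = B j ≫ vv i)
    (spanU : ∀ y : Coh.HH Y T 0, ∃ c : Fin 2 → Coh.HH Y A₁ 0, y = ∑ j, CurvLib.hMap (k := k) (uu j) 0 (c j))
    (spanA : ∀ y : Coh.HH Y A₁ 0, ∃ w : Fin 2 → Coh.HH Y E 0, y = ∑ i, CurvLib.hMap (k := k) (A i) 0 (w i))
    (joint : ∀ {N : Y.Modules} (g : T ⟶ N), (∀ i j, A i ≫ uu j ≫ g = 0) → g = 0) (r : ℕ) (hr : 2 ≤ r) :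
    ∃ m : (⨁ fun _ : Fin r => A₁) ⊞ (⨁ fun _ : Fin r => A₂) ⟶ ⨁ fun _ : Fin r => T,
      Epi m ∧ Function.Surjective (CurvLib.hMap (k := k) m 0) := by
  classical
  let ι : Fin r → (T ⟶ ⨁ fun _ : Fin r => T) := fun l => biproduct.ι (fun _ : Fin r => T) l
  let f₁ : Fin r → (A₁ ⟶ ⨁ fun _ : Fin r => T) := fun l => uu 0 ≫ ι l + l.val • (uu 1 ≫ ι l)
  let f₂ : Fin r → (A₂ ⟶ ⨁ fun _ : Fin r => T) := fun l => vv 0 ≫ ι l + vv 1 ≫ ι (finRotate r l)
  let m : (⨁ fun _ : Fin r => A₁) ⊞ (⨁ fun _ : Fin r => A₂) ⟶ ⨁ fun _ : Fin r => T :=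
    biprod.desc (biproduct.desc f₁) (biproduct.desc f₂)
  let W := LinearMap.range (CurvLib.hMap (k := k) m 0)
  have h₁ : ∀ l x, CurvLib.hMap (k := k) (f₁ l) 0 x ∈ W := fun l x =>
    ⟨CurvLib.hMap (k := k) (biproduct.ι (fun _ : Fin r => A₁) l ≫ biprod.inl) 0 x, by
      rw [← CurvLib.hMap_comp, Category.assoc, biprod.inl_desc, biproduct.ι_desc]⟩
  have h₂ : ∀ l x, CurvLib.hMap (k := k) (f₂ l) 0 x ∈ W := fun l x =>
    ⟨CurvLib.hMap (k := k) (biproduct.ι (fun _ : Fin r => A₂) l ≫ biprod.inr) 0 x, by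
      rw [← CurvLib.hMap_comp, Category.assoc, biprod.inr_desc, biproduct.ι_desc]⟩
  have hz : ∀ i j l (w : Coh.HH Y E 0), CurvLib.hMap (k := k) (A i ≫ uu j ≫ ι l) 0 w ∈ W := by
    intro i j l w
    refine eq_top_of_relations hr W (fun i j l => CurvLib.hMap (k := k) (A i ≫ uu j ≫ ι l) 0 w) (fun i l => ?_)
      (fun j l => ?_) i j l
    · have h := h₁ l (CurvLib.hMap (k := k) (A i) 0 w)
      rw [← CurvLib.hMap_comp, Preadditive.comp_add, Preadditive.comp_nsmul, ParGPLib.hMap_add] at h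
      convert h using 2
      exact (map_nsmul (AddMonoidHom.mk' (fun f : E ⟶ ⨁ fun _ : Fin r => T => CurvLib.hMap (k := k) f 0 w)
        fun a b => ParGPLib.hMap_add ..) _ _).symm
    · have h := h₂ l (CurvLib.hMap (k := k) (B j) 0 w)
      rw [← CurvLib.hMap_comp, Preadditive.comp_add, ParGPLib.hMap_add] at h
      simp only [← Category.assoc, hcompat]
      simpa only [← Category.assoc] using h
  have hL : ∀ y : Coh.HH Y T 0, ∀ l, CurvLib.hMap (k := k) (ι l) 0 y ∈ W := by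
    intro y l
    obtain ⟨c, rfl⟩ := spanU y
    rw [map_sum]
    refine W.sum_mem fun j _ => ?_
    obtain ⟨w, hw⟩ := spanA (c j)
    rw [hw, map_sum, map_sum]
    refine W.sum_mem fun i _ => ?_
    rw [← CurvLib.hMap_comp, ← CurvLib.hMap_comp]
    exact hz i j l _
  have hsurj : Function.Surjective (CurvLib.hMap (k := k) m 0) := fun y => by
    have hy : y = ∑ l, CurvLib.hMap (k := k) (ι l) 0
        (CurvLib.hMap (k := k) (biproduct.π (fun _ : Fin r => T) l) 0 y) := by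
      simp only [← CurvLib.hMap_comp]
      rw [← hMap_sum, biproduct.total, ParGPLib.hMap_id_apply]
    exact (show y ∈ W by rw [hy]; exact W.sum_mem fun l _ => hL _ l)
  refine ⟨m, Preadditive.epi_of_cancel_zero m fun {Z} π hπ => ?_, hsurj⟩
  refine biproduct.hom_ext' _ _ fun l => ?_
  rw [comp_zero]
  refine joint _ fun i j => ?_
  refine zero_of_epi_comp e.hom (hom_eq_zero_of_one _ ?_)
  obtain ⟨x, hx⟩ := hz i j l (CurvLib.hMap (k := k) e.hom 0 ((DegPullLib.e0 _).symm (1 : Γ(Y, ⊤))))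
  have h1 : CurvLib.hMap (k := k) (e.hom ≫ A i ≫ uu j ≫ ι l ≫ π) 0 ((DegPullLib.e0 _).symm (1 : Γ(Y, ⊤))) = 0 := by
    rw [CurvLib.hMap_comp, show A i ≫ uu j ≫ ι l ≫ π = (A i ≫ uu j ≫ ι l) ≫ π by simp only [Category.assoc],
      CurvLib.hMap_comp, ← hx, ← CurvLib.hMap_comp, hπ, ← sub_self (0 : _ ⟶ Z), ParGPLib.hMap_sub, sub_self]
  have h2 := congrArg (DegPullLib.e0 Z) h1
  rwa [RRVanLib.e0_map, AddEquiv.apply_symm_apply, map_zero] at h2

/-- Transport along isomorphisms. -/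
theorem surjective_of_isos {Y : Scheme.{u}} [Y.Over (Spec (CommRingCat.of k))] {Q₁ Q₂ P Q₁' Q₂' P' : Y.Modules}
    (m : Q₁' ⊞ Q₂' ⟶ P') (hepi : Epi m) (hsurj : Function.Surjective (CurvLib.hMap (k := k) m 0))
    (g₁ : Q₁ ≅ Q₁') (g₂ : Q₂ ≅ Q₂') (g₃ : P ≅ P') :
    ∃ m : Q₁ ⊞ Q₂ ⟶ P, Epi m ∧ Function.Surjective (Sheaf.H.map ((SheafOfModules.toSheaf _).map m) 0) := by
  let g := biprod.mapIso g₁ g₂
  refine ⟨g.hom ≫ m ≫ g₃.inv, inferInstance, fun y => ?_⟩
  obtain ⟨x, hx⟩ := hsurj (CurvLib.hMap (k := k) g₃.hom 0 y)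
  refine ⟨CurvLib.hMap (k := k) g.inv 0 x, ?_⟩
  show CurvLib.hMap (k := k) (g.hom ≫ m ≫ g₃.inv) 0 _ = y
  rw [← CurvLib.hMap_comp, Iso.inv_hom_id_assoc, CurvLib.hMap_comp, hx, ← CurvLib.hMap_comp, Iso.hom_inv_id,
    ParGPLib.hMap_id_apply]

/-- Tensoring a map on the right by a fixed module. -/
def whR {Y : Scheme.{u}} {A B : Y.Modules} (f : A ⟶ B) (M : Y.Modules) : CohB1.tensorMod A M ⟶ CohB1.tensorMod B M :=
  ((DCoh.tensorBi (X := Y)).map f).app M

/-- Tensoring a map on the left by a fixed module. -/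
def whL {Y : Scheme.{u}} (M : Y.Modules) {A B : Y.Modules} (f : A ⟶ B) : CohB1.tensorMod M A ⟶ CohB1.tensorMod M B :=
  ((DCoh.tensorBi (X := Y)).obj M).map f

theorem whL_whR {Y : Scheme.{u}} {A B C D : Y.Modules} (f : A ⟶ B) (g : C ⟶ D) :
    whL A g ≫ whR f D = whR f C ≫ whL B g := ((DCoh.tensorBi (X := Y)).map f).naturality g

theorem whR_eq {Y : Scheme.{u}} {A B : Y.Modules} (f : A ⟶ B) (M : Y.Modules) :
    whR f M = (swapIso M A).inv ≫ whL M f ≫ (swapIso M B).hom := by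
  rw [Iso.eq_inv_comp]; exact (map_swap f M).symm

theorem GenPair.spanL {Y : Scheme.{u}} [Y.Over (Spec (CommRingCat.of k))] {L K : Y.Modules} (S : GenPair k L K)
    (M : Y.Modules) (hM : FlatMod.IsFinLocFree M) (hK : Subsingleton (Coh.HH Y (CohB1.tensorMod M K) 1))
    (y : Coh.HH Y (CohB1.tensorMod M L) 0) : ∃ c : Fin 2 → Coh.HH Y (CohB1.tensorMod M (Coh.structureModule Y)) 0,
      y = ∑ i, CurvLib.hMap (k := k) (whL M (S.map i)) 0 (c i) := S.span M hM hK y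

theorem GenPair.jointL {Y : Scheme.{u}} [Y.Over (Spec (CommRingCat.of k))] {L K : Y.Modules} (S : GenPair k L K)
    (M : Y.Modules) (hM : FlatMod.IsFinLocFree M) {N : Y.Modules} (g : CohB1.tensorMod M L ⟶ N)
    (hg : ∀ i, whL M (S.map i) ≫ g = 0) : g = 0 := S.joint M hM g hg

/-- The block matrix from two generating pairs. -/
theorem exists_matrix_of_pairs [CharZero k] {Y : Scheme.{u}} [Y.Over (Spec (CommRingCat.of k))]
    {L₁ L₂ K₁ K₂ : Y.Modules} (S₁ : GenPair k L₁ K₁) (S₂ : GenPair k L₂ K₂)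
    (hL₁ : FlatMod.IsFinLocFree L₁) (hO : FlatMod.IsFinLocFree (Coh.structureModule Y))
    (hK₁ : Subsingleton (Coh.HH Y (CohB1.tensorMod (Coh.structureModule Y) K₁) 1))
    (hK₂ : Subsingleton (Coh.HH Y (CohB1.tensorMod L₁ K₂) 1)) (r : ℕ) (hr : 2 ≤ r) :
    ∃ m : (⨁ fun _ : Fin r => CohB1.tensorMod (Coh.structureModule Y) L₁) ⊞
        (⨁ fun _ : Fin r => CohB1.tensorMod L₂ (Coh.structureModule Y)) ⟶ ⨁ fun _ : Fin r => CohB1.tensorMod L₂ L₁,
      Epi m ∧ Function.Surjective (CurvLib.hMap (k := k) m 0) := by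
  refine exists_matrix_aux (k := k) (unitLeft (Coh.structureModule Y)).symm
    (fun i => whL _ (S₁.map i)) (fun j => whR (S₂.map j) _) (fun j => whR (S₂.map j) L₁)
    (fun i => whL L₂ (S₁.map i)) (fun i j => whL_whR (S₂.map j) (S₁.map i))
    (fun y => ?_) (fun y => S₁.spanL _ hO hK₁ y) (fun {N} g hg => ?_) r hr
  · obtain ⟨c, hc⟩ := S₂.spanL _ hL₁ hK₂ (CurvLib.hMap (k := k) (swapIso L₁ L₂).inv 0 y)
    refine ⟨fun j => CurvLib.hMap (k := k) (swapIso L₁ (Coh.structureModule Y)).hom 0 (c j), ?_⟩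
    have e := congrArg (CurvLib.hMap (k := k) (swapIso L₁ L₂).hom 0) hc
    rw [← CurvLib.hMap_comp, Iso.inv_hom_id, ParGPLib.hMap_id_apply, map_sum] at e
    rw [e]
    refine Finset.sum_congr rfl fun j _ => ?_
    rw [← CurvLib.hMap_comp, ← CurvLib.hMap_comp, whR_eq, Iso.hom_inv_id_assoc]
  · refine zero_of_epi_comp (swapIso L₁ L₂).hom
      (S₂.jointL _ hL₁ _ fun j => zero_of_epi_comp (swapIso L₁ (Coh.structureModule Y)).inv ?_)
    have h0 := S₁.jointL _ hO (whR (S₂.map j) L₁ ≫ g) fun i => hg i j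
    rw [whR_eq, Category.assoc, Category.assoc] at h0
    exact h0

/-- **A matrix of linear forms surjective on sections.** -/
theorem exists_matrix [CharZero k] (r : ℕ) (hr : 2 ≤ r) :
    ∃ m : (∐ fun _ : Fin r => bi k 1 0) ⊞ (∐ fun _ : Fin r => bi k 0 1) ⟶ ∐ fun _ : Fin r => bi k 1 1,
      Epi m ∧ Function.Surjective (Sheaf.H.map ((SheafOfModules.toSheaf _).map m) 0) := by
  haveI := isLN_X k
  obtain ⟨S₁⟩ := nonempty_genPair (k := k) 1 0 (.inl ⟨rfl, rfl⟩)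
  obtain ⟨S₂⟩ := nonempty_genPair (k := k) 0 1 (.inr ⟨rfl, rfl⟩)
  obtain ⟨e11⟩ := nonempty_bi_add k 0 1 1 0
  obtain ⟨eK⟩ := nonempty_bi_add k 1 0 (-0) (-1)
  obtain ⟨m, hepi, hsurj⟩ := exists_matrix_of_pairs S₁ S₂
    (AmpleDevLib.isFinLocFree_of_isInvertible (inv_bi k 1 0))
    (AmpleDevLib.isFinLocFree_of_isInvertible CurvLib.isInvertible_structureModule)
    (HdgLefLib.sub_iso (unitLeft _).symm 1 (sub1 k (-1) (-0) (.inl (by omega)) (.inl le_rfl)))
    (HdgLefLib.sub_iso eK.symm 1 (sub1 k _ _ (.inr (by omega)) (.inl (by omega)))) r hr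
  obtain ⟨g₁⟩ : Nonempty ((∐ fun _ : Fin r => bi k 1 0) ≅
      ⨁ fun _ : Fin r => CohB1.tensorMod (Coh.structureModule (X k)) (bi k 1 0)) := ⟨sumIso r (unitLeft _)⟩
  obtain ⟨g₂⟩ : Nonempty ((∐ fun _ : Fin r => bi k 0 1) ≅
      ⨁ fun _ : Fin r => CohB1.tensorMod (bi k 0 1) (Coh.structureModule (X k))) :=
    ⟨sumIso r (swapIso _ _ ≪≫ unitLeft _)⟩
  obtain ⟨g₃⟩ : Nonempty ((∐ fun _ : Fin r => bi k 1 1) ≅
      ⨁ fun _ : Fin r => CohB1.tensorMod (bi k 0 1) (bi k 1 0)) := ⟨sumIso r (e11 ≪≫ eqToIso (by norm_num))⟩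
  exact surjective_of_isos (k := k) m hepi hsurj g₁ g₂ g₃

end EllSecLib

end
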