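import Groth.Agent.EllSecLib.ResidualSeq
import Groth.Agent.EllSecLib.FormEval

/-!
# A plane and a quadric surface meeting in a line
-/

set_option autoImplicit false
set_option linter.style.haveILetI false
set_option backward.isDefEq.respectTransparency false
set_option backward.isDefEq.respectTransparency.types false
set_option maxHeartbeats 1000000

universe u

open CategoryTheory CategoryTheory.Limits AlgebraicGeometry TopologicalSpace Opposite MvPolynomial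
open HilbPolyLib CIDivLib
open KFlatLib (pb)

noncomputable section

namespace EllSecLib

variable {k : Type u} [Field k]

local notation "P4" => CohB1.ProjSpace 4 k

/-- Two linear forms. -/
abbrev fam₂ (l₁ l₂ : LefPen.Form 4 k 1) : ∀ _ : Fin 2, LefPen.Form 4 k 1 := ![l₁, l₂]

/-- Three linear forms. -/
abbrev fam₃ (l₁ l₂ m : LefPen.Form 4 k 1) : ∀ _ : Fin 3, LefPen.Form 4 k 1 := ![l₁, l₂, m]

/-- Degrees of a quadric in a hyperplane. -/
abbrev degB : Fin 2 → ℕ := ![1, 2]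

/-- A quadric in a hyperplane. -/
abbrev famB (m : LefPen.Form 4 k 1) (q : LefPen.Form 4 k 2) : ∀ j : Fin 2, LefPen.Form 4 k (degB j) :=
  Fin.cons m (Fin.cons q finZeroElim)

theorem ciIdeal_fam₂ (l₁ l₂ : LefPen.Form 4 k 1) :
    LefPen.ciIdeal (fam₂ l₁ l₂) = LefPen.hypIdeal l₁ ⊔ LefPen.hypIdeal l₂ := by
  refine le_antisymm (iSup_le fun j => ?_) (sup_le (le_iSup (fun j => LefPen.hypIdeal (fam₂ l₁ l₂ j)) 0)
    (le_iSup (fun j => LefPen.hypIdeal (fam₂ l₁ l₂ j)) 1))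
  fin_cases j
  · exact le_sup_left
  · exact le_sup_right

theorem ciIdeal_famB (m : LefPen.Form 4 k 1) (q : LefPen.Form 4 k 2) :
    LefPen.ciIdeal (famB m q) = LefPen.hypIdeal m ⊔ LefPen.hypIdeal q := by
  refine le_antisymm (iSup_le fun j => ?_) (sup_le (le_iSup (fun j => LefPen.hypIdeal (famB m q j)) 0)
    (le_iSup (fun j => LefPen.hypIdeal (famB m q j)) 1))
  fin_cases j
  · exact le_sup_left
  · exact le_sup_right

theorem prefix₃ (l₁ l₂ m : LefPen.Form 4 k 1) :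
    (fun j : Fin 2 => fam₃ l₁ l₂ m j.castSucc) = fam₂ l₁ l₂ := by
  funext j
  fin_cases j <;> rfl

theorem ciIdeal_prefB (m : LefPen.Form 4 k 1) (q : LefPen.Form 4 k 2) :
    LefPen.ciIdeal (fun j : Fin 1 => famB m q j.castSucc) = LefPen.hypIdeal m := by
  rw [LefPen.ciIdeal, iSup_unique]
  rfl

/-- Three independent linear forms cut out at most a line. -/
theorem dim_fam₃ (l₁ l₂ m : LefPen.Form 4 k 1) (hlin : LinearIndependent k ![l₁, l₂, m]) :
    topologicalKrullDim (LefPen.ciIdeal (fam₃ l₁ l₂ m)).subscheme ≤ ((1 : ℕ) : WithBot ℕ∞) := by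
  let V := Submodule.span k (Set.range ![l₁, l₂, m])
  have hV : Module.finrank k V = 3 := (finrank_span_eq_card hlin).trans (Fintype.card_fin 3)
  have hQ : Module.finrank k (LefPen.Form 4 k 1 ⧸ V) = 2 := by
    have h := Submodule.finrank_quotient_add_finrank V
    rw [hV, finrank_form, show Nat.choose (4 + 1) 1 = 5 from rfl] at h
    omega
  let b := Module.finBasisOfFinrankEq k _ hQ
  choose w hw using fun i => Submodule.mkQ_surjective V (b i)
  let G : Fin 4 → LefPen.Form 4 k 1 := ![l₁, l₂, m, w 0]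
  have hz : ∀ x ∈ ((LefPen.ciIdeal G).support : Set P4), x ∉ (LefPen.hypIdeal (w 1)).support := by
    intro x hx hx'
    obtain ⟨j, hj⟩ := Opens.mem_iSup.1 ((QCohLib.iSup_stdOpen 4 k).ge (show x ∈ (⊤ : (P4).Opens) from trivial))
    let U : (P4).affineOpens := ⟨LefPen.chart 4 k j, CIGen.chart_affine j⟩
    let K : Ideal Γ(P4, U.1) := (LefPen.ciIdeal G ⊔ LefPen.hypIdeal (w 1)).ideal U
    have hG : ∀ i, GradedCechLib.deh 4 k j (G i).1 ∈ K := fun i => by
      have hle : LefPen.hypIdeal (G i) ≤ LefPen.ciIdeal G ⊔ LefPen.hypIdeal (w 1) :=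
        le_sup_of_le_left (le_iSup (fun i => LefPen.hypIdeal (G i)) i)
      exact hle U (by rw [CIGen.hypIdeal_chart]; exact Ideal.mem_span_singleton_self _)
    have hw1 : GradedCechLib.deh 4 k j (w 1).1 ∈ K := by
      have hle : LefPen.hypIdeal (w 1) ≤ LefPen.ciIdeal G ⊔ LefPen.hypIdeal (w 1) := le_sup_right
      exact hle U (by rw [CIGen.hypIdeal_chart]; exact Ideal.mem_span_singleton_self _)
    let S : Submodule k (LefPen.Form 4 k 1) :=
      { carrier := {l | GradedCechLib.deh 4 k j l.1 ∈ K}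
        add_mem' := fun {a b} ha hb => by
          show GradedCechLib.deh 4 k j (a.1 + b.1) ∈ K
          rw [map_add]; exact K.add_mem ha hb
        zero_mem' := by
          show GradedCechLib.deh 4 k j 0 ∈ K
          rw [map_zero]; exact K.zero_mem
        smul_mem' := fun c a ha => by
          show GradedCechLib.deh 4 k j (c • a.1) ∈ K
          rw [MvPolynomial.smul_eq_C_mul, map_mul]; exact K.mul_mem_left _ ha }
    have hVS : V ≤ S := Submodule.span_le.2 (by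
      rintro _ ⟨i, rfl⟩
      fin_cases i
      · exact hG 0
      · exact hG 1
      · exact hG 2)
    have hwS : ∀ i, w i ∈ S := fun i => by
      fin_cases i
      · exact hG 3
      · exact hw1
    have hone : GradedCechLib.deh 4 k j (X j) ∈ K := by
      let l : LefPen.Form 4 k 1 := ⟨X j, LefPen.X_mem 4 k j⟩
      have h1 : l - ∑ i, b.repr (V.mkQ l) i • w i ∈ V := by
        rw [← Submodule.Quotient.mk_eq_zero, ← Submodule.mkQ_apply, map_sub, map_sum]
        simp only [map_smul, hw]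
        rw [b.sum_repr, sub_self]
      have h2 : (∑ i, b.repr (V.mkQ l) i • w i) ∈ S := S.sum_mem fun i _ => S.smul_mem _ (hwS i)
      have h3 := S.add_mem (hVS h1) h2
      rwa [sub_add_cancel] at h3
    rw [GradedCechLib.deh_X_self] at hone
    have hxs : x ∈ ((LefPen.ciIdeal G ⊔ LefPen.hypIdeal (w 1)).support : Set P4) ∩ U.1 :=
      ⟨by rw [Scheme.IdealSheafData.support_sup]; exact ⟨hx, hx'⟩, hj⟩
    rw [Scheme.IdealSheafData.coe_support_inter] at hxs
    have hh := (Scheme.mem_zeroLocus_iff _ _ _).1 hxs.1 (1 : Γ(P4, U.1)) hone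
    rw [Scheme.basicOpen_of_isUnit _ isUnit_one] at hh
    exact hh hj
  have h0 : topologicalKrullDim (LefPen.ciIdeal G).subscheme ≤ ((0 : ℕ) : WithBot ℕ∞) := by
    rw [(LefPen.ciIdeal G).subschemeι.isEmbedding.toHomeomorph.isHomeomorph.topologicalKrullDim_eq,
      (LefPen.ciIdeal G).range_subschemeι]
    exact dim_le_zero_of_disjoint one_pos (w 1) (LefPen.ciIdeal G).support.isClosed hz
  have h := dim_castSucc (a := fun _ : Fin 4 => 1) one_pos G h0
  rwa [show (fun j : Fin 3 => G j.castSucc) = fam₃ l₁ l₂ m by funext j; fin_cases j <;> rfl] at h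

/-- Vanishing of the twists of projective space. -/
theorem sub_twist {M : (P4).Modules} {t : ℤ} (e : M ≅ Twist.twistProjSpace 4 k t) (ht : -4 ≤ t) {i : ℕ} (hi : 1 ≤ i) :
    Subsingleton (Coh.HH P4 M i) :=
  HdgLefLib.sub_iso e.symm i (PnCohLib.subsingleton_HH_twist t i (fun h => by omega) (fun h => by omega))

/-- Vanishing on a complete intersection in low degree. -/
theorem sub_push_tw {r : ℕ} {a : Fin r → ℕ} (ha : ∀ j, 0 < a j) (G : ∀ j, LefPen.Form 4 k (a j)) (hr : r < 4)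
    (hdim : topologicalKrullDim (LefPen.ciIdeal G).subscheme ≤ ((4 - r : ℕ) : WithBot ℕ∞)) {t : ℤ}
    (ht : (∑ j, (a j : ℤ)) - 4 ≤ t) {i : ℕ} (hi : 1 ≤ i) {M : (P4).Modules}
    (e : M ≅ (Coh.push (LefPen.ciIdeal G).subschemeι).obj (tw (LefPen.ciIdeal G) t)) :
    Subsingleton (Coh.HH P4 M i) := by
  refine HdgLefLib.sub_iso e.symm i ?_
  haveI : IsLocallyNoetherian P4 := PnCohLib.isLocallyNoetherian_projSpace (n := 4) k
  haveI : Coh.IsQCoh (tw (LefPen.ciIdeal G) t) :=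
    FinLFAnn.isQCoh_of_isFinLocFree (AmpleDevLib.isFinLocFree_of_isInvertible (isInvertible_tw _ t))
  refine (HdgLefLib.sub_push _ i).2 ?_
  rcases lt_trichotomy i (4 - r) with h | h | h
  · exact subsingleton_HH_tw ha G hr.le hdim t i (.inl ⟨hi, h⟩)
  · subst h
    exact subsingleton_HH_top ha G hr hdim t ht
  · exact subsingleton_HH_of_dim_lt G hdim _ h

/-- The twisted ideal of the union. -/
theorem vanishing (l₁ l₂ m : LefPen.Form 4 k 1) (hlin : LinearIndependent k ![l₁, l₂, m])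
    (q : LefPen.Form 4 k 2) (a b c : LefPen.Form 4 k 1) (hq : q.1 = a.1 * l₁.1 + b.1 * l₂.1 + c.1 * m.1)
    (hdim : topologicalKrullDim (LefPen.hypIdeal m ⊔ LefPen.hypIdeal q).subscheme ≤ ((2 : ℕ) : WithBot ℕ∞))
    {i : ℕ} (hi : 1 ≤ i) :
    Subsingleton (Coh.HH P4 (CohB1.tensorMod (ClSub.idealMod ((LefPen.hypIdeal l₁ ⊔ LefPen.hypIdeal l₂) ⊓
        (LefPen.hypIdeal m ⊔ LefPen.hypIdeal q))) (Twist.twistProjSpace 4 k 2)) i) := by
  letI : (P4).Over (Spec (CommRingCat.of k)) := ⟨CohB1.ProjSpace.toSpec 4 k⟩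
  set I₁ := LefPen.hypIdeal l₁ ⊔ LefPen.hypIdeal l₂ with hI₁
  set I₂ := LefPen.hypIdeal m ⊔ LefPen.hypIdeal q with hI₂
  let O2 := Twist.twistProjSpace 4 k 2
  -- the plane
  have hd₃ := dim_fam₃ l₁ l₂ m hlin
  have hdA := dim_prefix (a := fun _ : Fin 3 => 1) (fam₃ l₁ l₂ m) (by omega) (fun _ => one_pos) hd₃
  have hkerA := (ker_step (a := fun _ : Fin 3 => 1) (fam₃ l₁ l₂ m)).trans (ciIdeal_succ (a := fun _ : Fin 3 => 1) (fam₃ l₁ l₂ m))
  obtain ⟨eA⟩ := nonempty_tensor_step (a := fun _ : Fin 3 => 1) (fam₃ l₁ l₂ m) (by omega) (fun _ => one_pos) hd₃ 2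
  obtain ⟨A, hA, ⟨a₁⟩, ⟨a₂⟩, ⟨a₃⟩⟩ := exists_twisted_seq _ hkerA 2 eA
  obtain ⟨em⟩ := PlaneCurveLib.nonempty_idealMod_iso (fam₃ l₁ l₂ m (Fin.last 2))
    (hlin.ne_zero (2 : Fin 3))
  obtain ⟨ea⟩ := PicPnLib.twist_add 4 k 2 (-((1 : ℕ) : ℤ))
  let a₂' : A.X₂ ≅ Twist.twistProjSpace 4 k 1 :=
    a₂ ≪≫ congrRight O2 em ≪≫ ea ≪≫ eqToIso (congrArg _ (by norm_num))
  let a₃' : A.X₃ ≅ (Coh.push (LefPen.ciIdeal fun j : Fin 2 => fam₃ l₁ l₂ m j.castSucc).subschemeι).obj
      (tw (LefPen.ciIdeal fun j : Fin 2 => fam₃ l₁ l₂ m j.castSucc) 1) :=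
    a₃ ≪≫ eqToIso (by norm_num)
  have hA3 : ∀ {p : ℕ}, 1 ≤ p → Subsingleton (Coh.HH P4 A.X₃ p) := fun hp =>
    sub_push_tw (a := fun _ : Fin 2 => 1) (fun _ => one_pos) _ (by omega) hdA (by norm_num) hp a₃'
  have hK : ∀ {p : ℕ}, 1 ≤ p → Subsingleton (Coh.HH P4 A.X₁ p) := by
    intro p hp
    rcases eq_or_lt_of_le hp with rfl | hp'
    · refine subsingleton_h1_left k hA (sub_twist a₂' (by norm_num) le_rfl) ?_
      haveI := hA.epi_g
      haveI : Epi (a₂'.inv ≫ A.g ≫ a₃'.hom) := inferInstance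
      have hs := surjective_app_of_epi (PicPnLib.twist_inv 4 k 1) (isInvertible_tw _ 1) (a₂'.inv ≫ A.g ≫ a₃'.hom)
        (surjAt_twist (a := fun _ : Fin 2 => 1) (fun _ => one_pos) _ (by omega) hdA (.inl (by omega)) 1)
      intro y
      obtain ⟨s, hs⟩ := hs (a₃'.hom.app ⊤ y)
      refine ⟨a₂'.inv.app ⊤ s, ?_⟩
      exact (congr($(a₃'.hom_inv_id).app ⊤ (A.g.app ⊤ (a₂'.inv.app ⊤ s)))).symm.trans
        ((congrArg (a₃'.inv.app ⊤) hs).trans congr($(a₃'.hom_inv_id).app ⊤ y))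
    · obtain ⟨p, rfl⟩ : ∃ p', p = p' + 1 := ⟨p - 1, by omega⟩
      exact HodgePnLib.sub₁_succ hA (hA3 (by omega)) (sub_twist a₂' (by norm_num) hp)
  -- the quadric
  have hdB : topologicalKrullDim (LefPen.ciIdeal (famB m q)).subscheme ≤ ((2 : ℕ) : WithBot ℕ∞) := by
    rw [ciIdeal_famB]; exact hdim
  have hB0 : ∀ j, 0 < degB j := fun j => by fin_cases j <;> simp
  have hdH := dim_prefix (famB m q) (by omega) hB0 hdB
  have hkerB : ((stepIdeal (famB m q)).subschemeι ≫ (LefPen.ciIdeal fun j : Fin 1 => famB m q j.castSucc).subschemeι).ker =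
      (LefPen.ciIdeal fun j : Fin 1 => famB m q j.castSucc) ⊔ (I₁ ⊓ I₂) := by
    rw [ker_step, ciIdeal_famB, ciIdeal_prefB]
    refine le_antisymm (sup_le le_sup_left ?_) (sup_le le_sup_left inf_le_right)
    refine Scheme.IdealSheafData.le_of_iSup_eq_top (fun j => ⟨LefPen.chart 4 k j, CIGen.chart_affine j⟩)
      (QCohLib.iSup_stdOpen 4 k) fun j => ?_
    rw [CIGen.hypIdeal_chart, Ideal.span_singleton_le_iff_mem, Scheme.IdealSheafData.ideal_sup, Pi.sup_apply,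
      Scheme.IdealSheafData.ideal_inf]
    let D : MvPolynomial (Fin 5) k →+* Γ(P4, (CIDivLib.chartA (k := k) (n := 4) j).1) := GradedCechLib.deh 4 k j
    have hgen : ∀ {d : ℕ} (G : LefPen.Form 4 k d) (r : Γ(P4, (CIDivLib.chartA (k := k) (n := 4) j).1)),
        r * D G.1 ∈ (LefPen.hypIdeal G).ideal (CIDivLib.chartA j) := fun G r => by
      rw [CIGen.hypIdeal_chart]; exact Ideal.mul_mem_left _ _ (Ideal.mem_span_singleton_self _)
    show D q.1 ∈ (LefPen.hypIdeal m).ideal (CIDivLib.chartA j) ⊔ (I₁.ideal (CIDivLib.chartA j) ⊓ I₂.ideal (CIDivLib.chartA j))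
    refine Submodule.mem_sup.2 ⟨D c.1 * D m.1, hgen m _, D a.1 * D l₁.1 + D b.1 * D l₂.1, ⟨?_, ?_⟩, ?_⟩
    · rw [hI₁, Scheme.IdealSheafData.ideal_sup, Pi.sup_apply]
      exact Ideal.add_mem _ (Submodule.mem_sup_left (hgen l₁ _)) (Submodule.mem_sup_right (hgen l₂ _))
    · rw [hI₂, Scheme.IdealSheafData.ideal_sup, Pi.sup_apply]
      rw [show D a.1 * D l₁.1 + D b.1 * D l₂.1 = 1 * D q.1 - D c.1 * D m.1 by
        rw [hq]; simp only [map_add, map_mul]; ring]
      exact Ideal.sub_mem _ (Submodule.mem_sup_right (hgen q _)) (Submodule.mem_sup_left (hgen m _))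
    · show _ = D q.1
      rw [hq]; simp only [map_add, map_mul]; ring
  obtain ⟨eB⟩ := nonempty_tensor_step (famB m q) (by omega) hB0 hdB 2
  obtain ⟨B, hB, ⟨b₁⟩, ⟨b₂⟩, ⟨b₃⟩⟩ := exists_twisted_seq _ hkerB 2 eB
  have hinf : (LefPen.ciIdeal fun j : Fin 1 => famB m q j.castSucc) ⊓ (I₁ ⊓ I₂) =
      (LefPen.ciIdeal fun j : Fin 2 => fam₃ l₁ l₂ m j.castSucc) ⊓ LefPen.hypIdeal (fam₃ l₁ l₂ m (Fin.last 2)) := by
    rw [ciIdeal_prefB, prefix₃, ciIdeal_fam₂]
    show LefPen.hypIdeal m ⊓ (I₁ ⊓ I₂) = I₁ ⊓ LefPen.hypIdeal m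
    rw [inf_left_comm]
    congr 1
    exact inf_eq_left.2 le_sup_left
  let b₁' : B.X₁ ≅ A.X₁ := b₁ ≪≫ congrRight O2 (eqToIso (congrArg ClSub.idealMod hinf)) ≪≫ a₁.symm
  have hB3 : Subsingleton (Coh.HH P4 B.X₃ i) :=
    sub_push_tw (t := 0) (fun j : Fin 1 => hB0 j.castSucc) _ (by omega) hdH (by simp) hi (b₃ ≪≫ eqToIso (by simp [degB]))
  have h2 := HdgLefLib.sub₂ hB (HdgLefLib.sub_iso b₁'.symm i (hK hi)) hB3
  exact HdgLefLib.sub_iso (b₂ ≪≫ swapIso _ _) i h2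

end EllSecLib

end
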