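import Groth.Agent.EllSecLib.TreeSeq
import Groth.Agent.EllSecLib.LowLeray
import Groth.Agent.CIDivLib.Top
import Groth.Agent.CIDivLib.Sections
import Groth.Agent.CIDivLib.Conormal
import Groth.Agent.RRVanLib.GG

/-!
# Residual sequences in projective space
-/

set_option autoImplicit false
set_option linter.style.haveILetI false
set_option backward.isDefEq.respectTransparency false
set_option backward.isDefEq.respectTransparency.types false
set_option maxHeartbeats 1000000

universe u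

open CategoryTheory CategoryTheory.Limits AlgebraicGeometry TopologicalSpace Opposite
open HilbPolyLib DevissLib NefH1Lib.Subcurve
open KFlatLib (pb)

noncomputable section

namespace EllSecLib

variable {C : Scheme.{u}} (I₁ I₂ : C.IdealSheafData) (P : I₁.subscheme.IdealSheafData)

/-- The residual sequence of two closed subschemes. -/
theorem exists_residual_seq (hker : (P.subschemeι ≫ I₁.subschemeι).ker = I₁ ⊔ I₂) :
    ∃ S : ShortComplex C.Modules, S.ShortExact ∧ Nonempty (S.X₁ ≅ ClSub.idealMod (I₁ ⊓ I₂)) ∧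
      Nonempty (S.X₂ ≅ ClSub.idealMod I₂) ∧ Nonempty (S.X₃ ≅ (Coh.push I₁.subschemeι).obj (ClSub.idealMod P)) := by
  let c : ClSub.idealMod I₂ ⟶ (Coh.push I₁.subschemeι).obj (Coh.structureModule I₁.subscheme) :=
    ClSub.idealModι I₂ ≫ ClSub.toSubscheme I₁
  let r := (Coh.push I₁.subschemeι).map (ClSub.toSubscheme P)
  have hev : ∀ (U : C.affineOpens) (a : Γ(C, U.1)),
      r.app U.1 ((ClSub.toSubscheme I₁).app U.1 a) = 0 ↔ a ∈ (I₁ ⊔ I₂).ideal U := fun U a => by
    rw [← hker, Scheme.Hom.ker_apply, RingHom.mem_ker]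
    exact Iff.rfl
  have hI₂ : ∀ (U : C.affineOpens) (σ : Γ(ClSub.idealMod I₂, U.1)), (ClSub.idealModι I₂).app U.1 σ ∈ I₂.ideal U :=
    fun U σ => by
      refine (IntMultLib.toSubscheme_app_eq_zero_iff I₂ U _).1 ?_
      exact congr(Scheme.Modules.Hom.app $((CurvLib.idealSeq I₂).zero) U.1 σ)
  have hcr : c ≫ r = 0 := by
    refine Scheme.Modules.hom_ext _ _ fun V => ?_
    refine ConcreteCategory.hom_ext _ _ fun σ => ?_
    refine GrModLib6.eq_zero_of_locally ((c ≫ r).app V σ) fun x hx => ?_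
    obtain ⟨U, hU, hxU, hle⟩ := exists_isAffineOpen_mem_and_subset (show x ∈ V from hx)
    refine ⟨U, hle, hxU, ?_⟩
    rw [← QCohLib.app_map]
    refine (hev ⟨U, hU⟩ _).2 ?_
    rw [Scheme.IdealSheafData.ideal_sup]
    exact Submodule.mem_sup_right (hI₂ ⟨U, hU⟩ _)
  let R := (CurvLib.idealSeq P).map (Coh.push I₁.subschemeι)
  haveI : Mono R.f := by
    haveI : Mono (ClSub.idealModι P) := (CurvLib.idealSeq_shortExact P).mono_f
    exact inferInstanceAs (Mono ((Coh.push I₁.subschemeι).map (ClSub.idealModι P)))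
  have hRe : R.Exact := by
    haveI := CohCmpLib.preservesFiniteLimits_push (f := I₁.subschemeι)
    haveI : Mono (CurvLib.idealSeq P).f := (CurvLib.idealSeq_shortExact P).mono_f
    exact (CurvLib.idealSeq_shortExact P).exact.map_of_mono_of_preservesKernel _ inferInstance inferInstance
  let l := hRe.lift c hcr
  have hl : l ≫ R.f = c := hRe.lift_f c hcr
  haveI : Epi l := by
    refine QCohLib.epi_of_surjective_on_affines _ fun V t p hp => ?_
    obtain ⟨U, hU, hpU, hle⟩ := exists_isAffineOpen_mem_and_subset (show p ∈ V from hp)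
    refine ⟨U, hle, hpU, ?_⟩
    let b : Γ(I₁.subscheme, I₁.subschemeι ⁻¹ᵁ U) := R.f.app U (R.X₁.presheaf.map (homOfLE hle).op t)
    obtain ⟨a, ha⟩ := I₁.subschemeι.app_surjective U hU b
    have hmem : a ∈ (I₁ ⊔ I₂).ideal ⟨U, hU⟩ := by
      refine (hev ⟨U, hU⟩ a).1 ?_
      show r.app U ((ClSub.toSubscheme I₁).app U a) = 0
      rw [show (ClSub.toSubscheme I₁).app U a = R.f.app U (R.X₁.presheaf.map (homOfLE hle).op t) from ha]
      exact congr(Scheme.Modules.Hom.app $(R.zero) U (R.X₁.presheaf.map (homOfLE hle).op t))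
    rw [Scheme.IdealSheafData.ideal_sup] at hmem
    obtain ⟨w, hw, v, hv, hwv⟩ := Submodule.mem_sup.1 hmem
    obtain ⟨σ, hσ⟩ := IntMultLib.exists_section I₂ ⟨U, hU⟩ hv
    refine ⟨σ, QCohLib.app_injective_of_mono R.f U ?_⟩
    refine Eq.trans (show R.f.app U (l.app U σ) = c.app U σ from congr(Scheme.Modules.Hom.app $hl U σ)) ?_
    refine Eq.trans ?_ ha
    show (ClSub.toSubscheme I₁).app U ((ClSub.idealModι I₂).app U σ) = (ClSub.toSubscheme I₁).app U a
    rw [hσ, ← hwv, map_add, (IntMultLib.toSubscheme_app_eq_zero_iff I₁ ⟨U, hU⟩ w).2 hw, zero_add]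
  haveI : Mono (ClSub.idealModι I₂) := (CurvLib.idealSeq_shortExact I₂).mono_f
  haveI : Mono (ClSub.idealModι (I₁ ⊓ I₂)) := (CurvLib.idealSeq_shortExact (I₁ ⊓ I₂)).mono_f
  haveI : Mono (CurvLib.idealSeq I₂).f := (CurvLib.idealSeq_shortExact I₂).mono_f
  let l₀ : ClSub.idealMod (I₁ ⊓ I₂) ⟶ ClSub.idealMod I₂ :=
    (CurvLib.idealSeq_shortExact I₂).exact.lift (ClSub.idealModι (I₁ ⊓ I₂))
      (NefH1Lib.Subcurve.idealModι_comp_toSubscheme inf_le_right)
  have hl₀ : l₀ ≫ ClSub.idealModι I₂ = ClSub.idealModι (I₁ ⊓ I₂) :=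
    (CurvLib.idealSeq_shortExact I₂).exact.lift_f _ _
  have h0 : l₀ ≫ l = 0 := by
    rw [← cancel_mono R.f, Category.assoc, hl, zero_comp]
    show l₀ ≫ ClSub.idealModι I₂ ≫ ClSub.toSubscheme I₁ = 0
    rw [← Category.assoc, hl₀]
    exact NefH1Lib.Subcurve.idealModι_comp_toSubscheme inf_le_left
  let j : ClSub.idealMod (I₁ ⊓ I₂) ⟶ kernel l := kernel.lift l l₀ h0
  haveI : Mono j := by
    haveI : Mono (j ≫ kernel.ι l ≫ ClSub.idealModι I₂) := by
      rw [← Category.assoc, kernel.lift_ι, hl₀]; infer_instance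
    exact mono_of_mono j (kernel.ι l ≫ ClSub.idealModι I₂)
  haveI : Epi j := by
    refine QCohLib.epi_of_surjective_on_affines _ fun V t p hp => ?_
    obtain ⟨U, hU, hpU, hle⟩ := exists_isAffineOpen_mem_and_subset (show p ∈ V from hp)
    refine ⟨U, hle, hpU, ?_⟩
    let s := (kernel l).presheaf.map (homOfLE hle).op t
    let a : Γ(C, U) := (ClSub.idealModι I₂).app U ((kernel.ι l).app U s)
    have hkc : kernel.ι l ≫ c = 0 := by rw [← hl, kernel.condition_assoc, zero_comp]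
    have hmem : a ∈ (I₁ ⊓ I₂).ideal ⟨U, hU⟩ := by
      rw [Scheme.IdealSheafData.ideal_inf]
      refine ⟨(IntMultLib.toSubscheme_app_eq_zero_iff I₁ ⟨U, hU⟩ _).1 ?_, hI₂ ⟨U, hU⟩ _⟩
      exact congr(Scheme.Modules.Hom.app $hkc U s)
    obtain ⟨σ, hσ⟩ := IntMultLib.exists_section (I₁ ⊓ I₂) ⟨U, hU⟩ hmem
    refine ⟨σ, injective_app (kernel.ι l) U (injective_app (ClSub.idealModι I₂) U ?_)⟩
    refine Eq.trans ?_ hσ
    refine Eq.trans (congrArg ((ClSub.idealModι I₂).app U)
      (congr(Scheme.Modules.Hom.app $(kernel.lift_ι l l₀ h0) U σ))) ?_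
    exact congr(Scheme.Modules.Hom.app $hl₀ U σ)
  haveI := isIso_of_mono_of_epi j
  exact ⟨ShortComplex.mk (kernel.ι l) l (kernel.condition l), ShortComplex.ShortExact.mk (ShortComplex.exact_kernel l),
    ⟨(asIso j).symm⟩, ⟨Iso.refl _⟩, ⟨Iso.refl _⟩⟩

/-- An epimorphism onto an invertible module on a closed subscheme is surjective on sections. -/
theorem surjective_app_of_epi {X : Scheme.{u}} {I : X.IdealSheafData} {F : X.Modules} (hF : PicF.IsInvertible F)
    {N : I.subscheme.Modules} (hN : PicF.IsInvertible N) (q : F ⟶ (Coh.push I.subschemeι).obj N) [Epi q]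
    (h : CIDivLib.SurjAt I.subschemeι F) : Function.Surjective (q.app ⊤) := by
  let i := I.subschemeι
  let adj := Scheme.Modules.pullbackPushforwardAdjunction i
  let α := (adj.homEquiv F _).symm q
  haveI : Epi α := by
    haveI := CycKSuppLib.isIso_counit i N
    rw [show α = _ from adj.homEquiv_counit F _ q]
    haveI : Epi ((Scheme.Modules.pullback i).map q) := inferInstance
    exact epi_comp _ _
  haveI := CohCmpLib.isIso_of_epi_rank_one (CurvLib.locFree_of_isInvertible (AmpleDevLib.isInvertible_pb i hF))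
    (CurvLib.locFree_of_isInvertible hN) α
  have hq : adj.unit.app F ≫ (Coh.push i).map α = q :=
    (adj.homEquiv_unit F _ α).symm.trans ((adj.homEquiv F _).apply_symm_apply q)
  intro y
  haveI : IsIso ((Coh.push i).map α) := inferInstance
  obtain ⟨s, hs⟩ := h ((inv ((Coh.push i).map α)).app ⊤ y)
  refine ⟨s, ?_⟩
  rw [← hq]
  exact (congrArg (((Coh.push i).map α).app ⊤) hs).trans congr($(IsIso.inv_hom_id ((Coh.push i).map α)).app ⊤ y)

/-- The first cohomology of a kernel, from surjectivity on sections. -/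
theorem subsingleton_h1_left (k : Type u) [Field k] [C.Over (Spec (CommRingCat.of k))] {S : ShortComplex C.Modules}
    (hS : S.ShortExact) (h2 : Subsingleton (Coh.HH C S.X₂ 1)) (hsurj : Function.Surjective (S.g.app ⊤)) :
    Subsingleton (Coh.HH C S.X₁ 1) := by
  refine subsingleton_of_forall_eq 0 fun x => ?_
  obtain ⟨z, hz⟩ : x ∈ LinearMap.range (CurvLib.hDel (k := k) hS 0) :=
    CurvLib.exact₁ (k := k) hS 0 ▸ (Subsingleton.elim (α := Coh.HH C S.X₂ 1) _ _ :)
  obtain ⟨s, hs⟩ := hsurj (DegPullLib.e0 S.X₃ z)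
  have hzr : z ∈ LinearMap.range (CurvLib.hMap (k := k) S.g 0) := by
    refine ⟨(DegPullLib.e0 S.X₂).symm s, (DegPullLib.e0 S.X₃).injective ?_⟩
    rw [RRVanLib.e0_map, AddEquiv.apply_symm_apply, hs]
  rw [CurvLib.exact₃ (k := k) hS 0, LinearMap.mem_ker] at hzr
  rw [← hz, hzr]

open HilbPolyLib in
/-- Twisting the residual sequence of a plane section. -/
theorem exists_twisted_seq {k : Type u} [Field k] {n : ℕ} {J I₂' : (CohB1.ProjSpace n k).IdealSheafData}
    (Q : J.subscheme.IdealSheafData) (hker : (Q.subschemeι ≫ J.subschemeι).ker = J ⊔ I₂') (t : ℤ)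
    {N : J.subscheme.Modules} (e : CohB1.tensorMod (pb J.subschemeι (Twist.twistProjSpace n k t)) (ClSub.idealMod Q) ≅ N) :
    ∃ S : ShortComplex (CohB1.ProjSpace n k).Modules, S.ShortExact ∧
      Nonempty (S.X₁ ≅ CohB1.tensorMod (Twist.twistProjSpace n k t) (ClSub.idealMod (J ⊓ I₂'))) ∧
      Nonempty (S.X₂ ≅ CohB1.tensorMod (Twist.twistProjSpace n k t) (ClSub.idealMod I₂')) ∧
      Nonempty (S.X₃ ≅ (Coh.push J.subschemeι).obj N) := by
  obtain ⟨T, hT, ⟨e₁⟩, ⟨e₂⟩, ⟨e₃⟩⟩ := exists_residual_seq J I₂' Q hker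
  have hF := AmpleDevLib.isFinLocFree_of_isInvertible (PicPnLib.twist_inv n k t)
  let pr := @asIso _ _ _ _ (ProjFormLib.projApp J.subschemeι (Twist.twistProjSpace n k t) (ClSub.idealMod Q))
    (ProjFormLib.isIso_projApp J.subschemeι hF (ClSub.idealMod Q))
  exact ⟨T.map ((DCoh.tensorBi (X := CohB1.ProjSpace n k)).obj (Twist.twistProjSpace n k t)),
    LiftHomLib.shortExact_tensor hF hT, ⟨congrRight _ e₁⟩, ⟨congrRight _ e₂⟩,
    ⟨congrRight _ e₃ ≪≫ pr ≪≫ (Coh.push J.subschemeι).mapIso e⟩⟩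

end EllSecLib
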