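import Groth.Agent.NodalLib.Inter
import Groth.Agent.LiftHomLib.Main
import Groth.Agent.AmpleDevLib.Components
import Groth.Agent.PushLinLib.HH
import Groth.Agent.SurfExtLib.CBGeom
import Groth.Agent.S2297
import Groth.Agent.EllSecLib.Contracted
import Groth.Agent.GrModLib6.Rel

/-!
# A union of two subcurves meeting in reduced points
-/

set_option autoImplicit false
set_option linter.style.haveILetI false
set_option backward.isDefEq.respectTransparency false
set_option backward.isDefEq.respectTransparency.types false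
set_option maxHeartbeats 1000000

universe u

open CategoryTheory CategoryTheory.Limits AlgebraicGeometry TopologicalSpace Opposite
open HilbPolyLib DevissLib NefH1Lib.Subcurve
open KFlatLib (pb)

noncomputable section

namespace EllSecLib

variable {C : Scheme.{u}}

/-- An ideal with reduced quotient is the vanishing ideal of its support. -/
theorem eq_vanishingIdeal (I : C.IdealSheafData) [IsReduced I.subscheme] :
    I = Scheme.IdealSheafData.vanishingIdeal I.support := by
  refine le_antisymm (Scheme.IdealSheafData.le_support_iff_le_vanishingIdeal.1 le_rfl) ?_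
  have h := AmpleDevLib.vanishingIdeal_le_ker_of_range I.subschemeι I.support I.range_subschemeι.le
  rwa [I.ker_subschemeι] at h

variable (I₁ I₂ : C.IdealSheafData) (P : I₁.subscheme.IdealSheafData)

/-- The ideal of the second piece, as a module on the first piece. -/
theorem nonempty_ideal_iso_push (hker : (P.subschemeι ≫ I₁.subschemeι).ker = I₁ ⊔ I₂) (hinf : I₁ ⊓ I₂ = ⊥) :
    Nonempty (ClSub.idealMod I₂ ≅ (Coh.push I₁.subschemeι).obj (ClSub.idealMod P)) := by
  let c : ClSub.idealMod I₂ ⟶ (Coh.push I₁.subschemeι).obj (Coh.structureModule I₁.subscheme) :=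
    ClSub.idealModι I₂ ≫ ClSub.toSubscheme I₁
  let r := (Coh.push I₁.subschemeι).map (ClSub.toSubscheme P)
  have hev : ∀ (U : C.affineOpens) (a : Γ(C, U.1)),
      r.app U.1 ((ClSub.toSubscheme I₁).app U.1 a) = 0 ↔ a ∈ (I₁ ⊔ I₂).ideal U := fun U a => by
    rw [← hker, Scheme.Hom.ker_apply, RingHom.mem_ker]
    exact Iff.rfl
  have hI₂ : ∀ (U : C.affineOpens) (σ : Γ(ClSub.idealMod I₂, U.1)), (ClSub.idealModι I₂).app U.1 σ ∈ I₂.ideal U :=
    fun U σ => by
      refine (IntMultLib.toSubscheme_app_eq_zero_iff I₂ U _).1 ?_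
      exact congr(Scheme.Modules.Hom.app $((CurvLib.idealSeq I₂).zero) U.1 σ)
  have hcr : c ≫ r = 0 := by
    refine Scheme.Modules.hom_ext _ _ fun V => ?_
    refine ConcreteCategory.hom_ext _ _ fun σ => ?_
    refine GrModLib6.eq_zero_of_locally ((c ≫ r).app V σ) fun x hx => ?_
    obtain ⟨U, hU, hxU, hle⟩ := exists_isAffineOpen_mem_and_subset (show x ∈ V from hx)
    refine ⟨U, hle, hxU, ?_⟩
    rw [← QCohLib.app_map]
    refine (hev ⟨U, hU⟩ _).2 ?_
    rw [Scheme.IdealSheafData.ideal_sup]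
    exact Submodule.mem_sup_right (hI₂ ⟨U, hU⟩ _)
  let R := (CurvLib.idealSeq P).map (Coh.push I₁.subschemeι)
  haveI : Mono R.f := by
    haveI : Mono (ClSub.idealModι P) := (CurvLib.idealSeq_shortExact P).mono_f
    exact inferInstanceAs (Mono ((Coh.push I₁.subschemeι).map (ClSub.idealModι P)))
  have hRe : R.Exact := by
    haveI := CohCmpLib.preservesFiniteLimits_push (f := I₁.subschemeι)
    haveI : Mono (CurvLib.idealSeq P).f := (CurvLib.idealSeq_shortExact P).mono_f
    exact (CurvLib.idealSeq_shortExact P).exact.map_of_mono_of_preservesKernel _ inferInstance inferInstance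
  let l := hRe.lift c hcr
  have hl : l ≫ R.f = c := hRe.lift_f c hcr
  haveI : Mono c := by
    refine GrModLib6.mono_of_app_injective _ fun V => (injective_iff_map_eq_zero _).2 fun σ hσ => ?_
    refine GrModLib6.eq_zero_of_locally σ fun x hx => ?_
    obtain ⟨U, hU, hxU, hle⟩ := exists_isAffineOpen_mem_and_subset (show x ∈ V from hx)
    refine ⟨U, hle, hxU, ?_⟩
    have h1 : (ClSub.idealModι I₂).app U ((ClSub.idealMod I₂).presheaf.map (homOfLE hle).op σ) ∈ I₁.ideal ⟨U, hU⟩ := by
      refine (IntMultLib.toSubscheme_app_eq_zero_iff I₁ ⟨U, hU⟩ _).1 ?_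
      refine Eq.trans ?_ ((congrArg (((Coh.push I₁.subschemeι).obj (Coh.structureModule I₁.subscheme)).presheaf.map (homOfLE hle).op) hσ).trans (map_zero _))
      exact QCohLib.app_map c (homOfLE hle) σ
    have h2 : (ClSub.idealModι I₂).app U ((ClSub.idealMod I₂).presheaf.map (homOfLE hle).op σ) ∈ (I₁ ⊓ I₂).ideal ⟨U, hU⟩ := by
      rw [Scheme.IdealSheafData.ideal_inf]
      exact ⟨h1, hI₂ ⟨U, hU⟩ _⟩
    rw [hinf, Scheme.IdealSheafData.ideal_bot] at h2
    haveI : Mono (ClSub.idealModι I₂) := (CurvLib.idealSeq_shortExact I₂).mono_f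
    let a : Γ(C, U) := (ClSub.idealModι I₂).app U ((ClSub.idealMod I₂).presheaf.map (homOfLE hle).op σ)
    have h3 : a = 0 := (Submodule.mem_bot Γ(C, U)).1 h2
    exact (QCohLib.app_injective_of_mono (ClSub.idealModι I₂) U) (Eq.trans (show _ = _ from h3) (map_zero _).symm)
  haveI : Mono (l ≫ R.f) := by rw [hl]; infer_instance
  haveI : Mono l := mono_of_mono l R.f
  haveI : Epi l := by
    refine QCohLib.epi_of_surjective_on_affines _ fun V t p hp => ?_
    obtain ⟨U, hU, hpU, hle⟩ := exists_isAffineOpen_mem_and_subset (show p ∈ V from hp)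
    refine ⟨U, hle, hpU, ?_⟩
    let b : Γ(I₁.subscheme, I₁.subschemeι ⁻¹ᵁ U) := R.f.app U (R.X₁.presheaf.map (homOfLE hle).op t)
    obtain ⟨a, ha⟩ := I₁.subschemeι.app_surjective U hU b
    have hmem : a ∈ (I₁ ⊔ I₂).ideal ⟨U, hU⟩ := by
      refine (hev ⟨U, hU⟩ a).1 ?_
      show r.app U ((ClSub.toSubscheme I₁).app U a) = 0
      rw [show (ClSub.toSubscheme I₁).app U a = R.f.app U (R.X₁.presheaf.map (homOfLE hle).op t) from ha]
      exact congr(Scheme.Modules.Hom.app $(R.zero) U (R.X₁.presheaf.map (homOfLE hle).op t))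
    rw [Scheme.IdealSheafData.ideal_sup] at hmem
    obtain ⟨w, hw, v, hv, hwv⟩ := Submodule.mem_sup.1 hmem
    obtain ⟨σ, hσ⟩ := IntMultLib.exists_section I₂ ⟨U, hU⟩ hv
    refine ⟨σ, QCohLib.app_injective_of_mono R.f U ?_⟩
    refine Eq.trans (show R.f.app U (l.app U σ) = c.app U σ from congr(Scheme.Modules.Hom.app $hl U σ)) ?_
    refine Eq.trans ?_ ha
    show (ClSub.toSubscheme I₁).app U ((ClSub.idealModι I₂).app U σ) = (ClSub.toSubscheme I₁).app U a
    rw [hσ, ← hwv, map_add, (IntMultLib.toSubscheme_app_eq_zero_iff I₁ ⟨U, hU⟩ w).2 hw, zero_add]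
  haveI := isIso_of_mono_of_epi l
  exact ⟨asIso l⟩

variable (k : Type u) [Field k] [C.Over (Spec (CommRingCat.of k))] [IsProper (C ↘ Spec (CommRingCat.of k))]

open HodgeIdxLib in
/-- First cohomology seen on the second piece. -/
theorem hh_one_eq_of_pieces (hdim : topologicalKrullDim C ≤ 1) {F : C.Modules} (hF : FlatMod.IsFinLocFree F)
    (hker : (P.subschemeι ≫ I₁.subschemeι).ker = I₁ ⊔ I₂) (hinf : I₁ ⊓ I₂ = ⊥)
    (hvan : Subsingleton (Coh.HH I₁.subscheme (CohB1.tensorMod (pb I₁.subschemeι F) (ClSub.idealMod P)) 1)) :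
    letI : I₂.subscheme.Over (Spec (CommRingCat.of k)) := ⟨I₂.subschemeι ≫ (C ↘ (Spec (CommRingCat.of k)))⟩
    hh k F 1 = hh k (pb I₂.subschemeι F) 1 := by
  letI : I₂.subscheme.Over (Spec (CommRingCat.of k)) := ⟨I₂.subschemeι ≫ (C ↘ (Spec (CommRingCat.of k)))⟩
  haveI := CurvLib.isNoetherian k (X := C)
  obtain ⟨eK⟩ := nonempty_ideal_iso_push I₁ I₂ P hker hinf
  let pr₁ := @asIso _ _ _ _ (ProjFormLib.projApp I₁.subschemeι F (ClSub.idealMod P))
    (ProjFormLib.isIso_projApp I₁.subschemeι hF (ClSub.idealMod P))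
  let pr₂ := @asIso _ _ _ _ (ProjFormLib.projApp I₂.subschemeι F (Coh.structureModule I₂.subscheme))
    (ProjFormLib.isIso_projApp I₂.subschemeι hF (Coh.structureModule I₂.subscheme))
  let S := (CurvLib.idealSeq I₂).map ((DCoh.tensorBi (X := C)).obj F)
  have hS : S.ShortExact := LiftHomLib.shortExact_tensor hF (CurvLib.idealSeq_shortExact I₂)
  have h₁ : Subsingleton (Coh.HH C S.X₁ 1) := by
    haveI : Coh.IsQCoh (CohB1.tensorMod (pb I₁.subschemeι F) (ClSub.idealMod P)) := by
      haveI : IsLocallyNoetherian I₁.subscheme := LocallyOfFiniteType.isLocallyNoetherian I₁.subschemeι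
      haveI := (SurfExtLib.isCoh_idealMod P).1
      haveI := (VBResLib.isCoh_of_vb (KFlatLib.isFinLocFree_pull I₁.subschemeι hF)).1
      exact (Groth.Agent.S2297.result _ _).1
    obtain ⟨E⟩ := QCohLib.nonempty_HH_push I₁.subschemeι (CohB1.tensorMod (pb I₁.subschemeι F) (ClSub.idealMod P)) 1
    exact @Equiv.subsingleton _ _ (CurvLib.hIso (k := k) (show S.X₁ ≅ _ from congrRight F eK ≪≫ pr₁) 1).toEquiv E.symm.injective.subsingleton
  have h₂ : Subsingleton (Coh.HH C S.X₁ (1 + 1)) :=
    CurvLib.subsingleton_HH_of_dim_le _ hdim 2 (by norm_num)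
  let e := LinearEquiv.ofBijective (CurvLib.hMap (k := k) S.g 1) ⟨by
    rw [← LinearMap.ker_eq_bot, ← CurvLib.exact₂ (k := k) hS 1, LinearMap.range_eq_bot]
    exact LinearMap.ext fun x => by rw [Subsingleton.elim x 0, map_zero, map_zero], by
    rw [← LinearMap.range_eq_top, CurvLib.exact₃ (k := k) hS 1, LinearMap.ker_eq_top]
    exact LinearMap.ext fun x => Subsingleton.elim _ _⟩
  have h3 := e.finrank_eq
  change hh k S.X₂ 1 = hh k S.X₃ 1 at h3
  rw [hh_congr (k := k) (show S.X₂ ≅ F from swapIso _ _ ≪≫ unitLeft F) 1,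
    hh_congr (k := k) (show S.X₃ ≅ _ from pr₂ ≪≫ (Coh.push I₂.subschemeι).mapIso (swapIso _ _ ≪≫ unitLeft (pb I₂.subschemeι F))) 1] at h3
  haveI : Coh.IsQCoh (pb I₂.subschemeι F) := by
    haveI : IsLocallyNoetherian I₂.subscheme := LocallyOfFiniteType.isLocallyNoetherian I₂.subschemeι
    exact (VBResLib.isCoh_of_vb (KFlatLib.isFinLocFree_pull I₂.subschemeι hF)).1
  exact h3.trans ((PushLinLib.euler_push k I₂.subschemeι rfl (pb I₂.subschemeι F)).1 1).symm

end EllSecLib

end
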